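/- Two commuting involutions acting on a simple group with dihedral Sylow 2-subgroups. -/
import Cfsg.Agent.Lib.Dih.Red

set_option autoImplicit false
set_option linter.unusedSectionVars false

namespace Cfsg.Agent.Lib.Dih

open Subgroup Cfsg.Agent.Lib Cfsg.Agent.Lib.Core Cfsg.Agent.Lib.PGroup Cfsg.Agent.Lib.Glaub
open scoped Cfsg.Agent.Lib.Glaub commutatorElement

variable {G : Type*} [Group G] [Finite G] {L S H T : Subgroup G} {x y a b c w z : G} {m : ℕ}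

theorem nonconj (hT : IsSyl 2 T H) (hw : T ≤ centralizer {w}) (hz2 : z * z = 1) (hz : z ≠ 1)
    (hn : ∀ n ∈ 𝐍(T), n * z * n⁻¹ = z) (hzT : T ≤ centralizer {z}) {g : G} (hg : g ∈ H) : g * w * g⁻¹ ≠ w * z := by
  intro e
  obtain ⟨k, hk, e1⟩ := (hT.mono (K := H ⊓ centralizer {w}) (le_inf hT.le hw) inf_le_left).exists_conj_le
    (Q := cj(g⁻¹, T)) (hT.isPGroup.map _) (map_conj_le_iff.mpr fun u hu => mem_inf.mpr
      ⟨mul_mem (mul_mem (inv_mem hg) (hT.le hu)) (inv_mem (inv_mem hg)), mem_cent.mpr (by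
        have := ((mem_cent.mp (hw hu)).mul_right (mem_cent.mp (hzT hu))).map (MulAut.conj g⁻¹)
        rwa [← e, MulAut.conj_apply, MulAut.conj_apply, show g⁻¹ * (g * w * g⁻¹) * g⁻¹⁻¹ = w by group] at this)⟩)
  rw [map_conj_map_conj] at e1
  have h1 := inv_mem (mem_normalizer_of_cj_le e1)
  have h2 : (k * g⁻¹)⁻¹ * w * (k * g⁻¹)⁻¹⁻¹ = w * z := by
    rw [← e, mul_inv_rev, inv_inv, mul_assoc g, (mem_cent.mp hk.2).inv_left.eq]; group
  have h3 : (k * g⁻¹)⁻¹ ∈ H := inv_mem (mul_mem (mem_inf.mp hk).1 (inv_mem hg))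
  generalize (k * g⁻¹)⁻¹ = n at h1 h2 h3
  have h4 : ∀ j : ℕ, n ^ j * w * (n ^ j)⁻¹ = w * z ^ j := fun j => by
    induction j with
    | zero => simp
    | succ j ih =>
      calc _ = n * (n ^ j * w * (n ^ j)⁻¹) * n⁻¹ := by group
        _ = n * w * n⁻¹ * (n * z * n⁻¹) ^ j := by rw [ih, conj_pow]; group
        _ = _ := by rw [h2, hn n h1, pow_succ', mul_assoc]
  obtain ⟨j, l, hj, e2⟩ := Transfer.exists_coprime_pow_pow_eq_one (p := 2) n
  have h5 := hT.eq_of_le (isPGroup_sup_of_le_normalizer (isPGroup_zpowers e2) hT.isPGroup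
    (zpowers_le.mpr (pow_mem h1 j))) le_sup_right (sup_le (zpowers_le.mpr (pow_mem h3 j)) hT.le)
  have h6 := h4 j
  rw [(mem_cent.mp (hw (h5 ▸ mem_sup_left (mem_zpowers _)))).eq, mul_inv_cancel_right, left_eq_mul] at h6
  exact hz ((pow_eq_one_iff_of_coprime hj).mp ⟨h6, by rwa [sq]⟩)

theorem iso [hL : L.Normal] (hC : 𝐂(L) = ⊥) (hs : ∀ N ≤ L, L ≤ 𝐍(N) → N = ⊥ ∨ N = L) (h : GD x y m S) (hT : IsSyl 2 T H)
    (hTL : T ⊓ L = S) (hLH : L ≤ H) (hw : w ∈ T) (hwL : w ∉ L) (h2 : w * w = 1) (hwS : ∀ s ∈ S, Commute w s)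
    (hH : ∀ g ∈ H, w⁻¹ * (g * w * g⁻¹) ∈ L) (h1 : ∀ g ∈ H, g * w * g⁻¹ ≠ w * x ^ 2 ^ m) :
    ∃ g ∈ H, ∃ e ∈ zpowers x, g * w * g⁻¹ = w * (e * y) := by
  by_contra hn
  push Not at hn
  have hZ := FT.Cons.zstar_amb hT (hT.le hw) h2 fun g hg e => by
    have h3 : w⁻¹ * (g * w * g⁻¹) ∈ S := hTL ▸ mem_inf.mpr ⟨mul_mem (inv_mem hw) e, hH g hg⟩
    rcases h.cases h3 with h4 | ⟨c, hc, h4⟩
    · rcases h.inv2 h4 (by
        have := (hwS _ h3).mul_mul_mul_comm w (w⁻¹ * (g * w * g⁻¹))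
        rwa [h2, one_mul, mul_inv_cancel_left, conj_mul, h2, mul_one, mul_inv_cancel] at this) with e | e
      · exact (inv_mul_eq_one.mp e).symm
      · exact absurd (inv_mul_eq_iff_eq_mul.mp e) (h1 g hg)
    · exact absurd (inv_mul_eq_iff_eq_mul.mp h4) (hn g hg c hc)
  have hO : OppOf 2 H ⊓ L = ⊥ := (hs _ inf_le_right (le_normalizer_inf
    (le_normalizer_OppOf (hLH.trans le_normalizer)) le_normalizer)).resolve_right fun e => OppOf_not_dvd (p := 2) H
      ((orderOf_half_pow h.ord).symm.dvd.trans (Subgroup.orderOf_dvd_natCard _ ((e.ge.trans inf_le_left)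
        ((hTL.ge.trans inf_le_right) (h.le h.zx)))))
  suffices w ∈ 𝐂(L) by
    rw [hC, mem_bot] at this
    exact hwL (this ▸ one_mem L)
  refine mem_centralizer_iff.mpr fun l hl => ?_
  have : ⁅w, l⁆ ∈ OppOf 2 H ⊓ L := mem_inf.mpr ⟨hZ l (hLH hl), mul_mem (hL.conj_mem l hl w) (inv_mem hl)⟩
  rw [hO, mem_bot, commutatorElement_eq_one_iff_mul_comm] at this
  exact this.symm

theorem exists_form (hD : ∃ S x y m, IsSyl 2 S L ∧ GD x y m S) (hS : IsSyl 2 S L) (hT : IsPGroup 2 T) (hTS : T ≤ 𝐍(S)) :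
    ∃ x y m, GD x y m S ∧ T ≤ 𝐍(zpowers x) := by
  obtain ⟨x, y, m, h⟩ : ∃ x y m, GD x y m S := by
    obtain ⟨S', x, y, m, h1, h2⟩ := hD
    obtain ⟨g, -, rfl⟩ := h1.exists_conj hS
    exact ⟨_, _, _, h2.map (MulAut.conj g).injective⟩
  rcases m with _ | m
  · obtain ⟨u, hu, h1⟩ := (SetLike.exists_of_lt (bot_lt_iff_ne_bot.mpr (inf_centralizer_ne_bot hT hS.isPGroup hTS
      fun e => h.x1 (mem_bot.mp (e ▸ h.le (mem_zpowers x))))))
    have hx : x * x = 1 := by simpa using h.z2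
    have hN : T ≤ 𝐍(zpowers u) := fun t ht => mem_normalizer_zpowers (by
      rw [mem_centralizer_iff.mp hu.2 t ht, mul_inv_cancel_right]; exact mem_zpowers u)
    rcases h.cases hu.1 with e | ⟨c, hc, rfl⟩
    · obtain rfl : u = x := by
        simpa using (h.inv2 e (let ⟨k, hk⟩ := e; by rw [← hk, ← (Commute.refl x).mul_zpow, hx, one_zpow])).resolve_left h1
      exact ⟨_, _, _, h, hN⟩
    · have ho := Invol.orderOf_two_of (h.rr hc) h1
      refine ⟨c * y, x, 0, ⟨ho, fun e => ?_, le_antisymm (sup_le (zpowers_le.mpr hu.1) h.le) ?_, ?_, hx⟩, hN⟩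
      · rcases eq_one_or_eq_half_pow (n := 0) ho e (by rwa [sq]) with e | e
        exacts [h.x1 e, h.rnot hc (by rw [pow_zero, pow_one] at e; exact e ▸ mem_zpowers x)]
      · rw [← h.sup]
        exact sup_le le_sup_right (zpowers_le.mpr ((mul_mem_cancel_left (mem_sup_right hc)).mp
          (mem_sup_left (mem_zpowers _))))
      · rw [inv_eq_of_mul_eq_one_right (h.rr hc), mul_inv_eq_iff_eq_mul]
        simpa using (h.zc hu.1).eq
  · refine ⟨x, y, _, h, fun t ht => mem_normalizer_zpowers ((h.cases (conj_mem_of_mem_normalizer (hTS ht)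
      (h.le (mem_zpowers x)))).resolve_right ?_)⟩
    rintro ⟨c, hc, e⟩
    have := h.rr hc
    rw [← e, conj_mul, mul_inv_eq_one, mul_eq_left] at this
    exact h.z1 (by rw [pow_succ', pow_mul, sq, this, one_pow])

namespace GD
variable (h : GD x y m S)
include h

theorem dih (hc : c ∈ zpowers x) (hx : x ∈ zpowers c) (ha : a * a = 1) (e : a * y * a⁻¹ = c * y) :
    a * y * (a * y) = c ∧ DihForm (a * y) y m (S ⊔ zpowers a) := by
  have e1 : a * y * (a * y) = c := by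
    rw [inv_eq_of_mul_eq_one_right ha] at e
    rw [← mul_assoc, e, mul_assoc, h.yy, mul_one]
  have e2 : zpowers c = zpowers x := le_antisymm (zpowers_le.mpr hc) (zpowers_le.mpr hx)
  have e3 : orderOf c = 2 ^ (m + 1) := by rw [← Nat.card_zpowers, e2, Nat.card_zpowers, h.ord]
  refine ⟨e1, orderOf_eq_prime_pow ?_ ?_, ?_, le_antisymm (sup_le (zpowers_le.mpr (mul_mem (mem_sup_right (mem_zpowers a))
    (mem_sup_left h.yS))) (zpowers_le.mpr (mem_sup_left h.yS))) (sup_le ?_ (zpowers_le.mpr ?_)), ?_, by rw [sq, h.yy]⟩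
  · rw [pow_succ', pow_mul, sq, e1]
    exact Invol.ne_one_of_orderOf_two (orderOf_half_pow e3)
  · rw [pow_succ', pow_mul, sq, e1, ← e3, pow_orderOf_eq_one]
  · rintro ⟨k, hk⟩
    have : Commute (a * y) y := by simpa only [hk] using (Commute.refl (a * y)).zpow_right k
    rw [Commute, SemiconjBy, ← mul_assoc, mul_left_inj] at this
    rw [this, mul_inv_cancel_right, right_eq_mul] at e
    exact h.x1 (by simpa [e] using hx)
  · rw [← h.sup, ← e2, ← e1]
    exact sup_le_sup_right (zpowers_le.mpr (mul_mem (mem_zpowers _) (mem_zpowers _))) _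
  · exact (mul_mem_cancel_right (mem_sup_right (mem_zpowers y))).mp (mem_sup_left (mem_zpowers _))
  · rw [mul_inv_rev, inv_eq_of_mul_eq_one_right ha, mul_assoc, mul_inv_cancel_right, inv_eq_of_mul_eq_one_right h.yy]

theorem not_mem_L (hS : IsSyl 2 S L) (hd : DihForm (a * y) y m (S ⊔ zpowers a)) (hP : IsPGroup 2 ↥(S ⊔ zpowers a)) :
    a ∉ L := fun e => by
  have h1 := hS.eq_of_le hP le_sup_left (sup_le hS.le (zpowers_le.mpr e))
  have h2 : (a * y) ^ 2 ^ (m + 1) = 1 := by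
    rcases h.cases (h1 ▸ hd.maxCl.a_mem) with e | ⟨c, hc, e⟩
    · obtain ⟨k, hk⟩ := e
      rw [← hk, ← zpow_natCast, ← zpow_mul, mul_comm, zpow_mul, zpow_natCast, ← h.ord, pow_orderOf_eq_one, one_zpow]
    · rw [pow_succ', pow_mul, sq, e, h.rr hc, one_pow]
  exact df_z1 hd h2

end GD

theorem final [hL : L.Normal] (hC : 𝐂(L) = ⊥) (hs : ∀ N ≤ L, L ≤ 𝐍(N) → N = ⊥ ∨ N = L) (h : GD x y m S)
    (hS : IsSyl 2 S L) (ha : a * a = 1) (haS : a ∈ 𝐍(S)) (haL : a ∉ L) (hd : DihForm (a * y) y m (S ⊔ zpowers a))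
    (hz : (a * y) ^ 2 ^ (m + 1) = x ^ 2 ^ m) (hza : Commute (x ^ 2 ^ m) a) :
    L ≤ (L ⊓ centralizer {a}) ⊔ (L ⊓ centralizer {x ^ 2 ^ m * a}) := by
  classical
  set K := (L ⊓ centralizer {a}) ⊔ (L ⊓ centralizer {x ^ 2 ^ m * a}) with hK
  have hn : ∀ g : G, g ∈ 𝐍(L) := fun g => by rw [normalizer_eq_top]; trivial
  have hzL := hS.le (h.le h.zx)
  have hzK : x ^ 2 ^ m ∈ K := mem_sup_left ⟨hzL, mem_cent.mpr hza⟩
  have hc : ∀ u v : G, Commute u v → u ∈ 𝐍(L ⊓ centralizer {v}) := fun u v e =>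
    le_normalizer_inf (fun g _ => hn g) le_normalizer (mem_cent.mpr e)
  have haK : a ∈ 𝐍(K) := le_normalizer_sup (zpowers_le.mpr (hc a a rfl))
    (zpowers_le.mpr (hc a _ (hza.symm.mul_right rfl))) (mem_zpowers a)
  set H := L ⊔ zpowers a
  haveI : Fintype H := Fintype.ofFinite _
  have hD : S ⊔ zpowers a ≤ H := sup_le_sup_right hS.le _
  have hP : PG (L.subgroupOf H) ((S ⊔ zpowers a).subgroupOf H) ⟨a * y, hD hd.maxCl.a_mem⟩ ⟨y, hD hd.maxCl.b_mem⟩ m :=
    ⟨relIndex_sup_zpowers (hn a) haL (by rw [sq, ha]; exact one_mem L), by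
      simpa using (syl_sup hS (fun g _ => hn g) (by
        rw [sup_comm]; exact isPGroup_sup_of_le_normalizer (pg_inv ha) hS.isPGroup (zpowers_le.mpr haS))).subgroupOf le_rfl,
      DihForm.of_map H.subtype_injective (by rw [map_subtype_subgroupOf hD]; exact hd), hS.le h.yS,
      fun e => haL ((mul_mem_cancel_right (hS.le h.yS)).mp e)⟩
  have ay : a * y * y = a := by rw [mul_assoc, h.yy, mul_one]
  have := hP.gen_top (H := (𝐍(K)).subgroupOf H) (by
      obtain ⟨g, hg, e⟩ := h.fuse hS hs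
      exact isConj_iff.mpr ⟨⟨g, mem_sup_left hg⟩, Subtype.ext (e.trans hz.symm)⟩)
    (fun N hN => by
      rcases hs (N.map H.subtype ⊓ L) inf_le_right (le_normalizer_inf
        (le_sup_left.trans (le_normalizer_map_subtype_of_normal N)) le_normalizer) with e | e
      · exact Or.inl (eq_bot_iff.mpr fun g hg => Subtype.ext (mem_bot.mp (e ▸ mem_inf.mpr ⟨mem_map_of_mem _ hg.1, hg.2⟩)))
      · exact Or.inr fun g hg => (mem_map_iff_mem H.subtype_injective).mp ((e.ge.trans inf_le_left) hg))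
    (fun e => h.z1 (mem_bot.mp (hC ▸ mem_centralizer_iff.mpr fun l hl => congrArg Subtype.val
      (mem_centralizer_iff.mp (e (show (⟨_, mem_sup_left hzL⟩ : H) ∈ L.subgroupOf H from hzL)) ⟨l, mem_sup_left hl⟩ hl))))
    (fun g hg => by
      have e : Commute (g : G) a := ay ▸ congrArg Subtype.val (mem_cent.mp hg)
      rcases mem_sup_inv (hn a) (ha ▸ one_mem L) g.2 with e1 | ⟨c, h1, e1⟩
      · exact le_normalizer (mem_sup_left ⟨e1, mem_cent.mpr e⟩)
      · rw [mem_subgroupOf, e1]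
        exact mul_mem (le_normalizer (mem_sup_left ⟨h1, mem_cent.mpr (by
          simpa [e1, mul_assoc, ha] using e.mul_left (Commute.refl a))⟩)) haK)
    (fun g hg => by
      have e : Commute (g : G) (x ^ 2 ^ m * a) := ay ▸ hz ▸ congrArg Subtype.val (mem_cent.mp hg)
      rcases mem_sup_inv (hn a) (ha ▸ one_mem L) g.2 with e1 | ⟨c, h1, e1⟩
      · exact le_normalizer (mem_sup_right ⟨e1, mem_cent.mpr e⟩)
      · rw [mem_subgroupOf, e1]
        exact mul_mem (le_normalizer (mem_sup_right ⟨h1, mem_cent.mpr (by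
          simpa [e1, mul_assoc, ha] using e.mul_left (hza.symm.mul_right (Commute.refl a)))⟩)) haK)
  rcases hs K (sup_le inf_le_left inf_le_left) (fun g hg => this (show (⟨g, mem_sup_left hg⟩ : H) ∈ _ from hg)) with e | e
  · exact absurd (mem_bot.mp (e ▸ hzK)) h.z1
  · exact e.ge

theorem core [hL : L.Normal] (hC : 𝐂(L) = ⊥) (hs : ∀ N ≤ L, L ≤ 𝐍(N) → N = ⊥ ∨ N = L)
    (hD : ∃ S x y m, IsSyl 2 S L ∧ GD x y m S) (ha : a * a = 1) (hb : b * b = 1) (hc : Commute a b) (hab : a ≠ b)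
    (hA : NC L a) (hB : NC L b) : L ≤ (L ⊓ centralizer {a}) ⊔ (L ⊓ centralizer {b}) := by
  have hn : ∀ A : Subgroup G, A ≤ 𝐍(L) := fun A => by rw [normalizer_eq_top]; exact le_top
  obtain ⟨T, hT, hU⟩ := exists_isSyl_ge (isPGroup_sup_of_le_normalizer (pg_inv ha) (pg_inv hb) (norm_of_comm hc))
    (le_sup_right (a := L))
  have hS := hT.inf_normal le_sup_left (hn _)
  have hTS : T ≤ 𝐍(T ⊓ L) := le_normalizer_inf le_normalizer (hn _)
  have haT := hU (mem_sup_left (mem_zpowers a))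
  have hbT := hU (mem_sup_right (mem_zpowers b))
  obtain ⟨x, y, m, h, hx⟩ := exists_form hD hS hT.isPGroup hTS
  obtain ⟨c, c1, c2, c3, c4⟩ := h.stepA hS hs hA ha (hTS haT) (hx haT)
  obtain ⟨d, d1, d2, d3, d4⟩ := h.stepA hS hs hB hb (hTS hbT) (hx hbT)
  have i1 : ∀ u ∈ zpowers x, a * u * a⁻¹ = u⁻¹ := fun u hu => by
    obtain ⟨k, rfl⟩ := zpowers_le.mpr c2 hu
    simp only [← conj_zpow, c4, inv_zpow]
  have i2 : ∀ u ∈ zpowers x, b * u * b⁻¹ = u⁻¹ := fun u hu => by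
    obtain ⟨k, rfl⟩ := zpowers_le.mpr d2 hu
    simp only [← conj_zpow, d4, inv_zpow]
  have w2 : a * b * (a * b) = 1 := by rw [hc.symm.mul_mul_mul_comm, ha, hb, one_mul]
  have wx : Commute (a * b) x := mul_inv_eq_iff_eq_mul.mp (by
    calc _ = a * (b * x * b⁻¹) * a⁻¹ := by group
      _ = x := by rw [i2 x (mem_zpowers x), i1 _ (inv_mem (mem_zpowers x)), inv_inv])
  have wy1 : a * b * y * (a * b)⁻¹ = d⁻¹ * c * y := by
    calc _ = a * (b * y * b⁻¹) * a⁻¹ := by group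
      _ = a * d * a⁻¹ * (a * y * a⁻¹) := by rw [d3]; group
      _ = _ := by rw [i1 d d1, c3, mul_assoc]
  have wy2 : a * b * y * (a * b)⁻¹ = c⁻¹ * d * y := by
    calc _ = b * (a * y * a⁻¹) * b⁻¹ := by rw [hc.eq]; group
      _ = b * c * b⁻¹ * (b * y * b⁻¹) := by rw [c3]; group
      _ = _ := by rw [i2 c c1, d3, mul_assoc]
  have wy : Commute (a * b) y := by
    rcases h.inv2 (mul_mem (inv_mem d1) c1) (by
      nth_rewrite 1 [mul_right_cancel (wy1.symm.trans wy2)]; group) with e | e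
    · rwa [e, one_mul, mul_inv_eq_iff_eq_mul] at wy1
    · rcases h.gen_or h.zx with e1 | ⟨r, hr, e1⟩
      · have : ∀ u ∈ zpowers x, x ∈ zpowers u → u = x ^ 2 ^ m := fun u hu h1 => (h.inv2 hu (by
          obtain ⟨k, rfl⟩ := zpowers_le.mpr e1 hu
          rw [← (Commute.refl _).mul_zpow, h.z2, one_zpow])).resolve_left fun e => h.x1 (by simpa [e] using h1)
        rw [this c c1 c2, this d d1 d2, inv_mul_cancel] at e
        exact absurd e.symm h.z1
      · exact (h.sqz hS hs w2 wx (e ▸ wy1) hr e1.symm).elim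
  have wS : ∀ s ∈ T ⊓ L, Commute (a * b) s := fun s => h.comm_of wx wy
  have w1 : a * b ≠ 1 := fun e => hab (mul_left_cancel (ha.trans e.symm))
  obtain ⟨e1, hd⟩ := h.dih c1 c2 ha c3
  have haL := h.not_mem_L hS hd (hT.isPGroup.to_le (sup_le inf_le_left (zpowers_le.mpr haT)))
  have hz : (a * y) ^ 2 ^ (m + 1) = x ^ 2 ^ m := (h.inv2 (by rw [pow_succ', pow_mul, sq, e1]; exact pow_mem c1 _)
    (df_z2 hd)).resolve_left (df_z1 hd)
  have hzL := hS.le (h.le h.zx)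
  have wa : Commute (a * b) a := (Commute.refl a).mul_left hc.symm
  have wz := wS _ (h.le h.zx)
  by_cases hw : a * b ∈ L
  · have := hA _ hw _ hzL w2 h.z2 w1 h.z1 wz wa (h.zn (hx haT))
    rw [show b = x ^ 2 ^ m * a by rw [← this, hc.eq, mul_assoc, ha, mul_one]]
    exact final hC hs h hS ha (hTS haT) haL hd hz (h.zn (hx haT))
  exfalso
  have hT' : T = T ⊓ L ⊔ (zpowers a ⊔ zpowers b) := (syl_sup hS (hn _) (hT.isPGroup.to_le (sup_le inf_le_left hU))).eq_of_le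
    hT.isPGroup (sup_le inf_le_left hU) hT.le
  have hTc : ∀ u, (∀ s ∈ T ⊓ L, Commute u s) → Commute u a → Commute u b → T ≤ centralizer {u} := fun u h1 h2 h3 =>
    hT'.le.trans (sup_le (fun s hs => mem_cent.mpr (h1 s hs).symm)
      (sup_le (zpowers_le.mpr (mem_cent.mpr h2.symm)) (zpowers_le.mpr (mem_cent.mpr h3.symm))))
  have wb : Commute (a * b) b := hc.mul_left (Commute.refl b)
  have hTz := hTc _ (fun s => h.zc) (h.zn (hx haT)) (h.zn (hx hbT))
  have hTw := hTc _ wS wa wb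
  have hzT : x ^ 2 ^ m ∈ T := (h.le h.zx).1
  have hNz : ∀ n ∈ 𝐍(T), n * x ^ 2 ^ m * n⁻¹ = x ^ 2 ^ m := fun n hn' => hA _ (hL.conj_mem _ hzL n) _ hzL
    (by rw [conj_mul, h.z2]; simp) h.z2 (by simpa using h.z1) h.z1
    (mem_cent.mp (hTz (conj_mem_of_mem_normalizer hn' hzT))) (by
      have := (mem_cent.mp (hTz (conj_mem_of_mem_normalizer' hn' haT))).map (MulAut.conj n)
      simpa [mul_assoc] using this.symm) (h.zn (hx haT))
  have hH : ∀ u, T ≤ centralizer {u} → ∀ g ∈ L ⊔ (zpowers a ⊔ zpowers b), u⁻¹ * (g * u * g⁻¹) ∈ L := fun u hu g hg => by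
    obtain ⟨l, hl, v, hv, rfl⟩ := (mem_sup_of_le_normalizer_left (hn _)).mp hg
    rw [mul_assoc l, (mem_cent.mp (hu (hU hv))).eq, show u⁻¹ * (l * (u * v) * (l * v)⁻¹) = u⁻¹ * l * u⁻¹⁻¹ * l⁻¹ by group]
    exact mul_mem (hL.conj_mem l hl _) (inv_mem hl)
  have hTwz : T ≤ centralizer {a * b * x ^ 2 ^ m} := fun t ht =>
    mem_cent.mpr ((mem_cent.mp (hTw ht)).mul_right (mem_cent.mp (hTz ht)))
  obtain ⟨g, hg, e, he, e2⟩ := iso hC hs h hT rfl le_sup_left (mul_mem haT hbT) hw w2 wS (hH _ hTw)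
    fun g => nonconj hT hTw h.z2 h.z1 hNz hTz
  obtain ⟨g', hg', e', he', e3⟩ := iso hC hs h hT rfl le_sup_left (mul_mem (mul_mem haT hbT) hzT)
    (fun e => hw ((mul_mem_cancel_right hzL).mp e)) (by rw [wz.symm.mul_mul_mul_comm, w2, h.z2, one_mul])
    (fun s hs => (wS s hs).mul_left (h.zc hs)) (hH _ hTwz) fun g => nonconj hT hTwz h.z2 h.z1 hNz hTz
  have hsq : zpowers x ≤ zpowers ((a * y) ^ 2) := by rw [sq, e1]; exact zpowers_le.mpr c2
  have hxa := hsq.trans (zpowers_le.mpr (pow_mem (mem_zpowers _) 2))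
  obtain ⟨k, hk, e4⟩ := df_conj hd (c' := x ^ 2 ^ m * e') (hxa he) (hsq (mul_mem (mul_mem h.zx he') (inv_mem he)))
  have hkT : k ∈ T := sup_le inf_le_left (zpowers_le.mpr haT) (df_le hd hk)
  refine nonconj hT hTw h.z2 h.z1 hNz hTz (mul_mem (mul_mem (inv_mem hg') (hT.le hkT)) hg) ?_
  calc _ = g'⁻¹ * (k * (g * (a * b) * g⁻¹) * k⁻¹) * g' := by group
    _ = g'⁻¹ * (k * (a * b) * k⁻¹ * (k * (e * y) * k⁻¹)) * g' := by rw [e2]; group
    _ = g'⁻¹ * (a * b * x ^ 2 ^ m * (e' * y)) * g' := by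
      rw [e4, (mem_cent.mp (hTw hkT)).eq]; group
    _ = _ := by rw [← e3]; group

end Cfsg.Agent.Lib.Dih
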