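/- Two commuting involutory automorphisms of a simple group with dihedral Sylow 2-subgroups. -/
import Cfsg.Agent.Lib.Dih.Red2

set_option autoImplicit false
set_option linter.unusedSectionVars false

namespace Cfsg.Agent.Lib.Dih

open Subgroup Cfsg.Agent.Lib Cfsg.Agent.Lib.Core Cfsg.Agent.Lib.PGroup Cfsg.Agent.Lib.Glaub
open scoped Cfsg.Agent.Lib.Glaub

variable {G : Type*} [Group G] [Finite G]

theorem exists_GD [IsSimpleGroup G] (hna : ¬ IsMulCommutative G) (P : Sylow 2 G) {k : ℕ}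
    (e : (P : Subgroup G) ≃* DihedralGroup k) : ∃ x y m, GD x y m (P : Subgroup G) := by
  set φ := (P : Subgroup G).subtype.comp e.symm.toMonoidHom
  have hφ : Function.Injective φ := (P : Subgroup G).subtype_injective.comp e.symm.injective
  have h1 := not_mem_zpowers_map hφ (dihedral_sr_not_mem k 0)
  have h2 : zpowers (φ (.r 1)) ⊔ zpowers (φ (.sr 0)) = P := by
    rw [← MonoidHom.map_zpowers, ← MonoidHom.map_zpowers, ← Subgroup.map_sup, dihedral_sup, map_top_subtype_comp_symm]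
  have h3 : φ (.sr 0) * φ (.r 1) * (φ (.sr 0))⁻¹ = (φ (.r 1))⁻¹ := by
    rw [← map_inv, ← map_mul, ← map_mul, dihedral_conj, map_inv]
  have h4 : φ (.sr 0) * φ (.sr 0) = 1 := by rw [← map_mul, DihedralGroup.sr_mul_self, map_one]
  generalize φ (.r 1) = x at h1 h2 h3
  generalize φ (.sr 0) = y at h1 h2 h3 h4
  obtain ⟨_ | m, hm⟩ := IsPGroup.iff_orderOf.mp P.isPGroup' ⟨x, h2 ▸ mem_sup_left (mem_zpowers x)⟩
  · obtain rfl : x = 1 := congrArg Subtype.val (orderOf_eq_one_iff.mp hm)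
    obtain ⟨M, hM, h5, -⟩ := Transfer.thompson_transfer P (Q := zpowers 1) (u := y) (by
      rw [← h2]; exact relIndex_sup_zpowers (mem_normalizer_zpowers (by simp)) h1 (by simp [sq, h4]))
      (by rwa [sq]) (h2 ▸ mem_sup_right (mem_zpowers y)) h1 fun g => by simpa using h1
    rcases hM.eq_bot_or_eq_top with rfl | rfl
    · haveI : IsCyclic G := isCyclic_of_prime_card (p := 2) (index_bot (G := G) ▸ h5)
      exfalso
      exact hna inferInstance
    · simp at h5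
  · exact ⟨x, y, m, by rw [← hm, ← orderOf_coe], h1, h2, h3, h4⟩

theorem conj_inj [IsSimpleGroup G] (hna : ¬ IsMulCommutative G) : Function.Injective (MulAut.conj : G →* MulAut G) := by
  rw [← MonoidHom.ker_eq_bot_iff]
  refine (Normal.eq_bot_or_eq_top inferInstance).resolve_right fun e => hna ⟨⟨fun a b => ?_⟩⟩
  have := congrArg (fun f : MulAut G => f b) (MonoidHom.mem_ker.mp (e ▸ mem_top a))
  simpa [mul_inv_eq_iff_eq_mul] using this

theorem aut_core [IsSimpleGroup G] (hna : ¬ IsMulCommutative G)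
    (hD : ∀ P : Sylow 2 G, ∃ n : ℕ, Nonempty ((P : Subgroup G) ≃* DihedralGroup n)) {α β : MulAut G} (ha : α * α = 1)
    (hb : β * β = 1) (hc : Commute α β) (hab : α ≠ β)
    (hN : ∀ γ : MulAut G, γ = α ∨ γ = β → ∀ u v : G, u * u = 1 → v * v = 1 → u ≠ 1 → v ≠ 1 → Commute u v → γ u = u →
      γ v = v → u = v) {A B : Subgroup G} (hA : ∀ u, α u = u → u ∈ A) (hB : ∀ u, β u = u → u ∈ B) : A ⊔ B = ⊤ := by
  have hi := conj_inj hna
  have hcj : ∀ (γ : MulAut G) (u : G), γ * MulAut.conj u * γ⁻¹ = MulAut.conj (γ u) := fun γ u => by ext; simp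
  have hf : ∀ (γ : MulAut G) (u : G), Commute (MulAut.conj u) γ → γ u = u := fun γ u e =>
    hi (by rw [← hcj, ← e.eq, mul_inv_cancel_right])
  haveI : (MulAut.conj : G →* MulAut G).range.Normal := ⟨by rintro _ ⟨u, rfl⟩ γ; exact ⟨_, (hcj γ u).symm⟩⟩
  have hNC : ∀ γ : MulAut G, γ = α ∨ γ = β → NC (MulAut.conj : G →* MulAut G).range γ := by
    rintro γ hγ _ ⟨u, rfl⟩ _ ⟨v, rfl⟩ h1 h2 h3 h4 h5 h6 h7
    rw [hN γ hγ u v (hi (by rw [map_mul, h1, map_one])) (hi (by rw [map_mul, h2, map_one])) (by rintro rfl; simp at h3)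
      (by rintro rfl; simp at h4) (hi (by rw [map_mul, map_mul, h5.eq])) (hf γ u h6) (hf γ v h7)]
  obtain ⟨P⟩ : Nonempty (Sylow 2 G) := inferInstance
  obtain ⟨n, ⟨e⟩⟩ := hD P
  obtain ⟨x, y, m, h⟩ := exists_GD hna P e
  have := core (L := (MulAut.conj : G →* MulAut G).range) (eq_bot_iff.mpr fun γ hγ => mem_bot.mpr (by
      ext u; exact hf γ u (mem_centralizer_iff.mp hγ _ ⟨u, rfl⟩)))
    (fun N hN h1 => by
      have : (N.comap MulAut.conj).Normal := ⟨fun u hu g => by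
        simpa only [mem_comap, map_mul, map_inv] using conj_mem_of_mem_normalizer (h1 ⟨g, rfl⟩) hu⟩
      rw [← map_comap_eq_self hN]
      rcases this.eq_bot_or_eq_top with e | e <;> simp [e, MonoidHom.range_eq_map])
    ⟨_, _, _, _, by rw [MonoidHom.range_eq_map]; exact (isSyl_sylow P).map _, h.map hi⟩ ha hb hc hab
    (hNC _ (Or.inl rfl)) (hNC _ (Or.inr rfl))
  refine eq_top_iff.mpr fun g _ => (mem_map_iff_mem hi).mp (this.trans (sup_le ?_ ?_) ⟨g, rfl⟩)
  · rintro _ ⟨⟨u, rfl⟩, hu⟩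
    exact mem_map_of_mem _ (mem_sup_left (hA u (hf _ u (mem_cent.mp hu))))
  · rintro _ ⟨⟨u, rfl⟩, hu⟩
    exact mem_map_of_mem _ (mem_sup_right (hB u (hf _ u (mem_cent.mp hu))))

theorem nc_of_cyclic {K : Subgroup G} (h : ∀ R : Sylow 2 K, IsCyclic R) {u v : G} (hu : u ∈ K) (hv : v ∈ K)
    (h1 : u * u = 1) (h2 : v * v = 1) (h3 : u ≠ 1) (h4 : v ≠ 1) (h5 : Commute u v) : u = v := by
  obtain ⟨R, hR, hle⟩ := exists_isSyl_ge (isPGroup_sup_of_le_normalizer (pg_inv h1) (pg_inv h2) (norm_of_comm h5))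
    (sup_le (zpowers_le.mpr hu) (zpowers_le.mpr hv))
  obtain ⟨S, rfl⟩ := hR.exists_sylow_map
  exact Invol.involution_unique_of_isCyclic (FT.isCyclic_map (h S) _) (hle (mem_sup_left (mem_zpowers u)))
    (hle (mem_sup_right (mem_zpowers v))) (Invol.orderOf_two_of h1 h3) (Invol.orderOf_two_of h2 h4)

end Cfsg.Agent.Lib.Dih
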