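/- Normal subgroups of a 2-group containing no normal non-cyclic abelian subgroup. -/
import Cfsg.Agent.Lib.PGroup.MaxClass2

set_option autoImplicit false

namespace Cfsg.Agent.Lib.Dih

open Subgroup Cfsg.Agent.Lib.Transfer Cfsg.Agent.Lib.PGroup
open scoped Pointwise commutatorElement IsMulCommutative

variable {G : Type*} [Group G] [Finite G]

theorem rel_maxCl (hG : IsPGroup 2 G) (N : Subgroup G) [hN : N.Normal]
    (h : ∀ A : Subgroup G, A.Normal → A ≤ N → IsMulCommutative A → IsCyclic A) :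
    IsCyclic N ∨ ∃ (a b : G) (n : ℕ), MaxCl a b n N ∧ (zpowers a).Normal := by
  haveI := Fact.mk Nat.prime_two
  obtain ⟨A, ⟨hAn, hA, hAN⟩, hmax⟩ := (wellFounded_gt (α := Subgroup G)).has_min
    {D | D.Normal ∧ IsMulCommutative D ∧ D ≤ N} ⟨⊥, inferInstance, inferInstance, bot_le⟩
  have hC : N ⊓ centralizer (A : Set G) ≤ A := by
    by_contra hne
    obtain ⟨x, hx, hxA, -, hxc⟩ := exists_central_mod hG hne
    exact hmax _ ⟨normal_sup_zpowers hxc, isMulCommutative_sup_zpowers hx.2, sup_le hAN (zpowers_le.2 hx.1)⟩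
      (lt_of_le_of_ne le_sup_left fun e => hxA (e ▸ mem_sup_right (mem_zpowers x)))
  obtain ⟨a, rfl⟩ := A.isCyclic_iff_exists_zpowers_eq_top.1 (h A hAn hAN hA)
  by_cases htop : zpowers a = N
  · exact Or.inl (htop ▸ inferInstance)
  right
  have hCa : ∀ g ∈ N, g * a * g⁻¹ = a → g ∈ zpowers a := fun g hgN hg => hC ⟨hgN, by
    rw [zpowers_eq_closure, centralizer_closure]
    exact mem_centralizer_singleton_iff.2 (mul_inv_eq_iff_eq_mul.1 hg)⟩
  have hconj : ∀ g : G, g * a * g⁻¹ ∈ zpowers a := hAn.conj_mem a (mem_zpowers a)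
  obtain ⟨j, hj⟩ := IsPGroup.iff_orderOf.1 hG a
  obtain ⟨n, rfl⟩ : ∃ n, j = n + 2 := by
    refine ⟨j - 2, ?_⟩
    by_contra hc
    have h1 : Nat.card (zpowers a) = 1 ∨ Nat.card (zpowers a) = 2 := by
      rw [Nat.card_zpowers, hj]
      have : j = 0 ∨ j = 1 := by omega
      rcases this with rfl | rfl <;> simp
    refine htop (le_antisymm hAN fun g hg => hCa g hg (conj_eq_of_commute (commute_of_mem_center ?_ g)))
    rcases h1 with h1 | h1
    · rw [card_eq_one, zpowers_eq_bot] at h1; rw [h1]; exact one_mem _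
    · exact le_center_of_card_eq hG h1 (mem_zpowers a)
  set z := a ^ 2 ^ (n + 1) with hzdef
  have hzo : orderOf z = 2 := orderOf_half_pow hj
  have hzz : z * z = 1 := half_pow_mul_self hj
  have hz : z ∈ center G := by
    refine mem_center_iff.2 fun g => ?_
    rcases eq_one_or_eq_half_pow hj (c := g * z * g⁻¹) (hAn.conj_mem _ (pow_mem (mem_zpowers a) _) g)
      (by rw [conj_pow, sq, hzz]; group) with e | e
    · rw [mul_inv_eq_one, mul_eq_left] at e
      rw [e, orderOf_one] at hzo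
      omega
    · exact mul_inv_eq_iff_eq_mul.1 e
  -- no element acts as `a ↦ a z` when `n ≥ 1`
  have hmod : 1 ≤ n → ∀ b ∈ N, b * a * b⁻¹ ≠ a * z := by
    intro hn b hbN hb
    obtain ⟨m, rfl⟩ := Nat.exists_eq_add_of_le' hn
    have hbk : ∀ k : ℤ, b * a ^ k * b⁻¹ = a ^ k * z ^ k := fun k => by
      rw [← conj_zpow, hb, (commute_of_mem_center hz a).symm.mul_zpow]
    have hz2 : ∀ k : ℤ, z ^ (2 * k) = 1 := fun k => by rw [zpow_mul, zpow_two, hzz, one_zpow]
    have hb2 : b ^ 2 ∈ zpowers a := hCa _ (pow_mem hbN 2) (by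
      calc b ^ 2 * a * (b ^ 2)⁻¹ = b * (b * a * b⁻¹) * b⁻¹ := by rw [sq]; group
        _ = b * (a * z) * b⁻¹ := by rw [hb]
        _ = (b * a * b⁻¹) * (b * z * b⁻¹) := by group
        _ = a := by rw [hb, conj_eq_of_commute (commute_of_mem_center hz b), mul_assoc, hzz, mul_one])
    have hba : b ∉ zpowers a := fun e => by
      rw [conj_eq_of_commute (setLike_mul_comm (mem_zpowers a) e), left_eq_mul] at hb
      rw [hb, orderOf_one] at hzo
      omega
    -- an involution `t` in the coset of `b`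
    obtain ⟨t, htN, ht1, ht2, ht3⟩ : ∃ t ∈ N, t ∉ zpowers a ∧ t ^ 2 = 1 ∧ t * a * t⁻¹ = a * z := by
      have hbi : ∀ i : ℤ, b * a ^ i ∈ N := fun i => mul_mem hbN (hAN (zpow_mem (mem_zpowers a) i))
      have aux : ∀ i : ℤ, b * a ^ i ∉ zpowers a ∧ b * a ^ i * a * (b * a ^ i)⁻¹ = a * z ∧
          (b * a ^ i) ^ 2 = a ^ i * z ^ i * b ^ 2 * a ^ i := fun i =>
        ⟨fun e => hba (((zpowers a).mul_mem_cancel_right (zpow_mem (mem_zpowers a) i)).1 e),
          by rw [← hb]; group, by rw [← hbk, sq, sq]; group⟩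
      obtain ⟨k, hk⟩ := hb2
      simp only at hk
      have h1 := hbk k
      rw [hk, show b * b ^ 2 * b⁻¹ = b ^ 2 by group, left_eq_mul,
        ← orderOf_dvd_iff_zpow_eq_one, hzo] at h1
      obtain ⟨l, rfl⟩ := h1
      have h2 : ∀ i : ℤ, (b * a ^ i) ^ 2 = a ^ (2 * (i + l)) * z ^ i := fun i => by
        rw [(aux i).2.2, ← hk, mul_assoc, mul_assoc, ← zpow_add,
          (commute_of_mem_center (zpow_mem hz i) _).eq, ← mul_assoc, ← zpow_add]
        congr 2
        push_cast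
        ring
      obtain ⟨c, rfl | rfl⟩ := Int.even_or_odd' l
      · exact ⟨_, hbi _, (aux (-(2 * c))).1, by
          rw [h2, neg_add_cancel, mul_zero, zpow_zero, one_mul, zpow_neg, hz2, inv_one], (aux _).2.1⟩
      · refine ⟨_, hbi _, (aux (2 ^ (m + 1) - (2 * c + 1))).1, ?_, (aux _).2.1⟩
        rw [h2, sub_add_cancel, ← pow_succ', show (2 : ℤ) ^ (m + 1) - (2 * c + 1) =
          2 * (2 ^ m - c - 1) + 1 by ring, zpow_add_one, hz2, one_mul]
        exact_mod_cast hzz
    have htk : ∀ k : ℤ, t * a ^ k * t⁻¹ = a ^ k * z ^ k := fun k => by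
      rw [← conj_zpow, ht3, (commute_of_mem_center hz a).symm.mul_zpow]
    have hcomm : ∀ g : G, ⁅t, g⁆ ∈ zpowers z := by
      intro g
      obtain ⟨j, hjg⟩ := hconj g⁻¹
      simp only at hjg
      have h1 : ⁅t, g⁆ ∈ zpowers a := hCa _ (by
        simpa only [commutatorElement_def, mul_assoc] using mul_mem htN (hN.conj_mem _ (inv_mem htN) g)) (by
        have e1 : t⁻¹ = t := by rw [inv_eq_iff_mul_eq_one, ← sq, ht2]
        have e2 : g * (a ^ j * z ^ j) * g⁻¹ = a * z ^ j := by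
          rw [hjg, mul_assoc g, mul_assoc, mul_assoc, (commute_of_mem_center (zpow_mem hz j) _).eq]
          group
        have e3 : z ^ j = z := by
          obtain ⟨c, rfl | rfl⟩ := Int.even_or_odd' j
          · exfalso
            have o1 : orderOf (g⁻¹ * a * g⁻¹⁻¹) = orderOf a := (MulAut.conj g⁻¹).orderOf_eq a
            have o2 : (a ^ (2 * c)) ^ 2 ^ (m + 1 + 1) = 1 := by
              rw [← zpow_natCast, ← zpow_mul, mul_right_comm, zpow_mul,
                show (2 : ℤ) * (2 ^ (m + 1 + 1) : ℕ) = (orderOf a : ℕ) by rw [hj]; push_cast; ring,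
                zpow_natCast, pow_orderOf_eq_one, one_zpow]
            have o3 := orderOf_dvd_of_pow_eq_one o2
            rw [hjg, o1, hj] at o3
            have := (Nat.pow_dvd_pow_iff_le_right one_lt_two).1 o3
            omega
          · rw [zpow_add_one, hz2, one_mul]
        calc ⁅t, g⁆ * a * ⁅t, g⁆⁻¹ = t * (g * (t⁻¹ * (g⁻¹ * a * g⁻¹⁻¹) * t) * g⁻¹) * t⁻¹ := by
              rw [commutatorElement_def]; group
          _ = t * (g * (t * a ^ j * t⁻¹) * g⁻¹) * t⁻¹ := by rw [hjg, e1]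
          _ = (t * a * t⁻¹) * (t * z * t⁻¹) := by rw [htk, e2, e3]; group
          _ = a := by
              rw [ht3, conj_eq_of_commute (commute_of_mem_center hz t), mul_assoc, hzz, mul_one])
      obtain ⟨k, hk⟩ := h1
      simp only at hk
      have h2 : a ^ k * z ^ k * a ^ k = 1 := by
        rw [← htk, hk]
        calc t * ⁅t, g⁆ * t⁻¹ * ⁅t, g⁆ = t ^ 2 * (g * (t ^ 2)⁻¹ * g⁻¹) := by
              rw [commutatorElement_def, sq]; group
          _ = 1 := by rw [ht2]; group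
      have h3 : (2 : ℤ) ^ (m + 1 + 1) ∣ k := by
        rw [hzdef, ← zpow_natCast, ← zpow_mul, ← zpow_add, ← zpow_add,
          ← orderOf_dvd_iff_zpow_eq_one, hj] at h2
        have : IsCoprime ((2 : ℤ) ^ (m + 1 + 1)) (1 + 2 * 2 ^ m) :=
          (Int.isCoprime_two_left.2 ⟨2 ^ m, by ring⟩).pow_left
        refine this.dvd_of_dvd_mul_right (Int.dvd_of_mul_dvd_mul_left (a := 2) (by norm_num) ?_)
        convert h2 using 1
        · push_cast; ring
        · push_cast; ring
      rw [← hk, mem_zpowers_iff_of_orderOf_two hzo]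
      exact zpow_eq_of_two_pow_dvd hj h3
    haveI := normal_of_le_center (zpowers_le_of_mem hz)
    haveI : IsMulCommutative (zpowers z ⊔ zpowers t : Subgroup G) := isMulCommutative_sup_zpowers
      (le_centralizer_iff.1 ((zpowers_le_of_mem hz).trans (center_le_centralizer _))
        (mem_zpowers t))
    haveI hV := h _ (normal_sup_zpowers hcomm)
      (sup_le (zpowers_le.2 (hAN (pow_mem (mem_zpowers a) _))) (zpowers_le.2 htN)) this
    have htz : t ∉ zpowers z := fun e => ht1 (zpowers_le_of_mem (pow_mem (mem_zpowers a) _) e)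
    have h1 := card_sup_zpowers (le_normalizer_of_normal (mem_top t)) htz (ht2 ▸ one_mem _)
    have h2 := card_dvd_of_le_isCyclic (C := zpowers z ⊔ zpowers t) le_rfl (n := 2)
      fun x hx => ((sup_le (zpowers_le_of_mem ⟨mem_sup_left (mem_zpowers z), by rw [sq, hzz]⟩)
        (zpowers_le_of_mem ⟨mem_sup_right (mem_zpowers t), ht2⟩) :
          zpowers z ⊔ zpowers t ≤ omegaIn (zpowers z ⊔ zpowers t) 2) hx).2
    rw [h1, Nat.card_zpowers, hzo] at h2
    omega
  have key : ∀ b ∈ N, b ∉ zpowers a → b ^ 2 ∈ zpowers a →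
      b * a * b⁻¹ = a⁻¹ ∨ (1 ≤ n ∧ b * a * b⁻¹ = a⁻¹ * z) := by
    intro b hbN hb hb2
    rcases conj_cases hj (hconj b) (setLike_mul_comm hb2 (mem_zpowers a)) with h | h | h | h
    · exact absurd (hCa b hbN h) hb
    · rcases Nat.eq_zero_or_pos n with rfl | hn
      · left
        rw [h, eq_inv_iff_mul_eq_one, ← pow_succ', ← pow_succ]
        exact (show 2 ^ (0 + 1) + 1 + 1 = orderOf a from hj.symm) ▸ pow_orderOf_eq_one a
      · exact absurd h (hmod hn b hbN)
    · exact Or.inl h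
    · refine Or.inr ⟨Nat.pos_of_ne_zero ?_, h⟩
      rintro rfl
      exact hb (hCa b hbN (by rw [h]; simp [sq]))
  have hsq : ∀ k : ℕ, ∀ x ∈ N, x ^ 2 ^ k ∈ zpowers a → x ^ 2 ∈ zpowers a := by
    intro k
    induction k with
    | zero => intro x _ hx; exact pow_mem (by simpa using hx) 2
    | succ k ih =>
      intro x hxN hx
      have h1 := ih (x ^ 2) (pow_mem hxN 2) (by rwa [← pow_mul, ← pow_succ'])
      by_contra h2
      obtain ⟨i, hi⟩ := hconj x
      simp only at hi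
      have h3 : x ^ 2 * a * (x ^ 2)⁻¹ = a ^ (i * i) := by
        rw [zpow_mul, hi, conj_zpow, hi, sq]; group
      have h4 : (4 : ℤ) ∣ i * i + 1 := by
        have d4 : (4 : ℤ) ∣ (orderOf a : ℕ) := by
          rw [hj]; exact ⟨2 ^ n, by push_cast; ring⟩
        rcases key _ (pow_mem hxN 2) h2 h1 with h5 | ⟨hn, h5⟩
        · rw [h3, eq_inv_iff_mul_eq_one, ← zpow_add_one, ← orderOf_dvd_iff_zpow_eq_one] at h5
          exact d4.trans h5
        · rw [h3, eq_inv_mul_iff_mul_eq, ← zpow_one_add, hzdef, ← zpow_natCast,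
            zpow_eq_zpow_iff_modEq, Int.modEq_iff_dvd] at h5
          obtain ⟨m, rfl⟩ := Nat.exists_eq_add_of_le' hn
          have h6 : (4 : ℤ) ∣ ((2 ^ (m + 1 + 1) : ℕ) : ℤ) := ⟨2 ^ m, by push_cast; ring⟩
          have := (Int.dvd_iff_dvd_of_dvd_sub (d4.trans h5)).1 h6
          rwa [add_comm] at this
      obtain ⟨c, rfl | rfl⟩ := Int.even_or_odd' i
      · have e : 2 * c * (2 * c) + 1 = 4 * (c * c) + 1 := by ring
        omega
      · have e : (2 * c + 1) * (2 * c + 1) + 1 = 4 * (c * c + c) + 2 := by ring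
        omega
  have key' : ∀ b ∈ N, b ∉ zpowers a → b * a * b⁻¹ = a⁻¹ ∨ (1 ≤ n ∧ b * a * b⁻¹ = a⁻¹ * z) := by
    intro b hbN hb
    obtain ⟨k, hk⟩ := hG b
    exact key b hbN hb (hsq k b hbN (hk ▸ one_mem _))
  obtain ⟨b, hbN, hb⟩ := SetLike.exists_of_lt (lt_of_le_of_ne hAN htop)
  have hsup : zpowers a ⊔ zpowers b = N := by
    refine le_antisymm (sup_le hAN (zpowers_le.2 hbN)) fun g hgN => ?_
    by_cases hg : g ∈ zpowers a
    · exact mem_sup_left hg
    have h1 : b * g ∈ zpowers a := by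
      have e : b * g * a * (b * g)⁻¹ = b * (g * a * g⁻¹) * b⁻¹ := by group
      have e1 : b * a⁻¹ * b⁻¹ = (b * a * b⁻¹)⁻¹ := by group
      have e2 : b * (a⁻¹ * z) * b⁻¹ = (b * a * b⁻¹)⁻¹ * z := by
        conv_rhs => rw [← conj_eq_of_commute (commute_of_mem_center hz b)]
        group
      have e3 : z⁻¹ = z := inv_eq_of_mul_eq_one_right hzz
      rcases key' g hgN hg with h1 | ⟨hn, h1⟩ <;> rcases key' b hbN hb with h2 | ⟨hn', h2⟩
      · exact hCa _ (mul_mem hbN hgN) (by rw [e, h1, e1, h2, inv_inv])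
      · exact absurd (by rw [e, h1, e1, h2, mul_inv_rev, inv_inv, e3, mem_center_iff.1 hz])
          (hmod hn' (b * g) (mul_mem hbN hgN))
      · exact absurd (by rw [e, h1, e2, h2, inv_inv]) (hmod hn (b * g) (mul_mem hbN hgN))
      · exact hCa _ (mul_mem hbN hgN) (by rw [e, h1, e2, h2, mul_inv_rev, inv_inv, e3, ← mem_center_iff.1 hz,
          mul_assoc, hzz, mul_one])
    rw [← inv_mul_cancel_left b g]
    exact mul_mem (mem_sup_right (inv_mem (mem_zpowers b))) (mem_sup_left h1)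
  obtain ⟨k, hk⟩ := hG b
  obtain ⟨b', hb'⟩ := exists_maxCl hj hb (hsq k b hbN (hk ▸ one_mem _)) (key' b hbN hb)
  exact ⟨a, b', n, hsup ▸ hb', hAn⟩

end Cfsg.Agent.Lib.Dih
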