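/- Four-groups acting on perfect groups without centralizing a four-group. -/
import Cfsg.Agent.Lib.Dih.Red3
import Cfsg.Agent.Lib.Dih.Rel
import Cfsg.Agent.Lib.PGroup.Rank

set_option autoImplicit false
set_option linter.unusedSectionVars false

namespace Cfsg.Agent.Lib.Dih

open Subgroup Cfsg.Agent.Lib Cfsg.Agent.Lib.Core Cfsg.Agent.Lib.PGroup Cfsg.Agent.Lib.Glaub
open scoped Cfsg.Agent.Lib.Glaub commutatorElement

variable {G : Type*} [Group G] [Finite G] {L S H T : Subgroup G} {x y c d t a b : G} {m : ℕ}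

theorem fuse' (hS : IsSyl 2 S L) (hi : ∀ M : Subgroup L, M.index ≠ 2) {X : Subgroup G} (hX : X.relIndex S = 2)
    (hy : y ∈ S) (h2 : y * y = 1) : ∃ g ∈ L, g * y * g⁻¹ ∈ X := by
  by_contra hn
  push Not at hn
  obtain ⟨P, hP⟩ := hS.exists_sylow
  obtain ⟨M, -, h2, -⟩ := Transfer.thompson_transfer P (Q := X.subgroupOf L) (u := ⟨y, hS.le hy⟩) (by
    rw [hP, relIndex_subgroupOf hS.le, hX]) (Subtype.ext (by rw [coe_pow, sq]; exact h2)) (hP ▸ hy)
    (by simpa [mem_subgroupOf] using hn 1 (one_mem L)) fun g => hn g g.2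
  exact hi M h2

theorem sq2 (hT : IsSyl 2 T H) (ho : orderOf x = 2 ^ (m + 1)) (hz : T ≤ centralizer {x ^ 2 ^ m})
    (hsq : ∀ u ∈ T, u * u ∈ zpowers x) (hc : c ∈ H) (h2 : c * c = x ^ 2 ^ m) (hcy : Commute c y) {g : G} (hg : g ∈ H)
    (e : g * y * g⁻¹ = x ^ 2 ^ m) : y = x ^ 2 ^ m := by
  have h4 : c ^ 2 ^ 2 = 1 := by rw [show 2 ^ 2 = 2 * 2 from rfl, pow_mul, sq c, h2, sq, half_pow_mul_self ho]
  obtain ⟨k, hk, e1⟩ := (hT.mono (K := H ⊓ centralizer {x ^ 2 ^ m}) (le_inf hT.le hz) inf_le_left).exists_conj_le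
    (Q := zpowers (g * c * g⁻¹)) (isPGroup_zpowers (k := 2) (by rw [conj_pow, h4]; simp))
    (zpowers_le.mpr (mem_inf.mpr ⟨mul_mem (mul_mem hg hc) (inv_mem hg), mem_cent.mpr (e ▸ hcy.map (MulAut.conj g))⟩))
  have h6 := hsq _ (map_conj_le_iff.mp e1 _ (mem_zpowers _))
  rw [conj_mul, conj_mul, h2] at h6
  rcases eq_one_or_eq_half_pow ho h6 (by rw [sq, conj_mul, conj_mul, half_pow_mul_self ho]; simp) with e2 | e2
  · exact absurd (by simpa using e2) (Invol.ne_one_of_orderOf_two (orderOf_half_pow ho))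
  · rw [mul_inv_eq_iff_eq_mul, ← (mem_cent.mp hk.2).eq, mul_right_inj] at e2
    rwa [← e2, mul_left_inj, mul_right_inj] at e

theorem GD.stepB (h : GD x y m S) (hr : ∀ c ∈ zpowers x, ¬ Commute (c * y) t) (h2 : t * t = 1) (htS : t ∈ 𝐍(S))
    (ht : t ∈ 𝐍(zpowers x)) : (∃ c ∈ zpowers x, x ∈ zpowers c ∧ t * y * t⁻¹ = c * y ∧ t * c * t⁻¹ = c⁻¹) ∨
      (Commute t x ∧ t * y * t⁻¹ = x ^ 2 ^ m * y ∧ ∃ r ∈ zpowers x, r * r = x ^ 2 ^ m) := by
  obtain ⟨c, hc, e⟩ := (h.cases (conj_mem_of_mem_normalizer htS h.yS)).resolve_left fun e => h.not_mem (by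
    simpa [mul_assoc] using conj_mem_of_mem_normalizer' ht e)
  have e1 : t * c * t⁻¹ = c⁻¹ := by
    refine eq_inv_of_mul_eq_one_left (mul_right_cancel (b := y) ?_)
    calc _ = t * c * t⁻¹ * (t * y * t⁻¹) := by rw [e]; group
      _ = t * (c * y) * t⁻¹ := by group
      _ = t * t * y * (t * t)⁻¹ := by rw [← e]; group
      _ = _ := by rw [h2]; group
  refine (h.gen_or hc).imp (fun h => ⟨c, hc, h, e, e1⟩) ?_
  rintro ⟨d, hd, rfl⟩
  have hx := conj_mem_of_mem_normalizer ht (mem_zpowers x)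
  have key : d * d ∉ zpowers (x * (t * x * t⁻¹)⁻¹) := by
    rintro ⟨j, hj⟩
    refine hr _ (zpow_mem (mem_zpowers x) j) (mul_inv_eq_iff_eq_mul.mp ?_).symm
    simp only at hj
    rw [Commute.mul_zpow (comm_zp (mem_zpowers x) (inv_mem hx)), inv_zpow, conj_zpow] at hj
    calc _ = t * x ^ j * t⁻¹ * (t * y * t⁻¹) := by group
      _ = _ := by
        rw [e, ← hj, ← mul_assoc, comm_zp (zpow_mem (mem_zpowers x) j) (inv_mem (conj_mem_of_mem_normalizer ht
          (zpow_mem (mem_zpowers x) j))), mul_inv_cancel_left]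
  have h1 : t * (d * d) * t⁻¹ = d * d → d * d = x ^ 2 ^ m := fun e2 =>
    (h.inv2 hc (by rw [e2] at e1; nth_rewrite 1 [e1]; group)).resolve_left fun e => key (e ▸ one_mem _)
  by_contra hn
  have c1 : t * x * t⁻¹ ≠ x := fun e2 => by
    have h3 : Commute t x := mul_inv_eq_iff_eq_mul.mp e2
    have := h1 (let ⟨k, hk⟩ := hc; hk ▸ mul_inv_eq_iff_eq_mul.mpr (h3.zpow_right k))
    exact hn ⟨h3, this ▸ e, d, hd, this⟩
  have hsq : d * d ∈ zpowers (x ^ 2) := by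
    obtain ⟨k, rfl⟩ := hd
    exact ⟨k, by simp only [sq, (Commute.refl x).mul_zpow]⟩
  rcases conj_cases h.ord hx (by rw [sq, h2]; exact Commute.one_left x) with e2 | e2 | e2 | e2
  · exact c1 e2
  · refine key ?_
    rw [h1, e2, mul_inv_rev, comm_zp (inv_mem h.zx) (inv_mem (mem_zpowers x)), mul_inv_cancel_left]
    · simp
    · obtain ⟨k, hk⟩ := hsq
      have : t * x ^ 2 * t⁻¹ = x ^ 2 := by
        rw [← conj_pow, e2, Commute.mul_pow ((Commute.refl x).pow_right _), sq (x ^ 2 ^ m), h.z2, mul_one]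
      simp only [← hk, ← conj_zpow, this]
  · exact key (by rwa [e2, inv_inv, ← sq])
  · rcases m with _ | _ | m
    · exact h.x1 (by simpa using e2)
    · exact c1 (by rw [e2]; group)
    · refine key (zpowers_le.mpr ?_ hsq)
      rw [e2, mul_inv_rev, inv_inv, inv_eq_of_mul_eq_one_right h.z2,
        show x * (x ^ 2 ^ (m + 1 + 1) * x) = (x ^ 2) ^ (2 * 2 ^ m + 1) by rw [← pow_mul, ← pow_succ, ← pow_succ']; ring_nf]
      exact mem_zpowers_pow_iff.mpr (((Nat.coprime_two_right.mpr (odd_two_mul_add_one _)).pow_right _).coprime_dvd_right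
        (h.ord ▸ orderOf_pow_dvd 2))

theorem NC.mono {K : Subgroup G} (h : NC L t) (hK : K ≤ L) : NC K t := fun u hu v hv => h u (hK hu) v (hK hv)

/-- a normal non-cyclic abelian subgroup of a `2`-group contains a normal four-group -/
theorem exists_four (hG : IsPGroup 2 G) {B : Subgroup G} [B.Normal] [IsMulCommutative B] (hc : ¬ IsCyclic B) :
    ∃ z ∈ B, ∃ w ∈ B, z * z = 1 ∧ w * w = 1 ∧ z ≠ 1 ∧ w ≠ 1 ∧ z ≠ w ∧ (∀ g, Commute z g) ∧
      ∀ g, g * w * g⁻¹ = w ∨ g * w * g⁻¹ = z * w := by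
  obtain ⟨z, hz, h1, h2⟩ := exists_central_orderOf_eq hG (N := B) (by rintro rfl; exact hc inferInstance)
  haveI := omegaIn_normal B 2
  haveI := normal_of_le_center (zpowers_le.mpr h1)
  obtain ⟨w, hw, h3, -, h4⟩ := exists_central_mod hG (N := zpowers z) (M := omegaIn B 2) fun e => by
    have := (sq_dvd_card_omegaIn (hG.to_subgroup B) hc).trans (card_dvd_of_le e)
    rw [Nat.card_zpowers, h2] at this
    omega
  refine ⟨z, hz, w, hw.1, Invol.mul_self_of_orderOf_two h2, sq w ▸ hw.2, Invol.ne_one_of_orderOf_two h2,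
    fun e => h3 (e ▸ one_mem _), fun e => h3 (e ▸ mem_zpowers z), fun g => (mem_center_iff.mp h1 g).symm, fun g => ?_⟩
  have h5 := inv_mem (h4 g)
  rw [commutatorElement_inv, mem_zpowers_iff_of_orderOf_two h2, commutatorElement_def, mul_inv_eq_one,
    mul_inv_eq_iff_eq_mul (b := w)] at h5
  exact h5

theorem rel_maxCl' (hT : IsPGroup 2 T) (hST : S ≤ T) (hn : T ≤ 𝐍(S))
    (h : ∀ z ∈ S, ∀ w ∈ S, z * z = 1 → w * w = 1 → z ≠ 1 → w ≠ 1 → (∀ g ∈ T, Commute z g) →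
      (∀ g ∈ T, g * w * g⁻¹ = w ∨ g * w * g⁻¹ = z * w) → z = w) :
    IsCyclic S ∨ ∃ x y n, MaxCl x y n S ∧ T ≤ 𝐍(zpowers x) := by
  haveI := (normal_subgroupOf_iff_le_normalizer hST).mpr hn
  refine (rel_maxCl hT (S.subgroupOf T) fun B _ hB _ => ?_).imp (fun h => (subgroupOfEquivOfLe hST).isCyclic.mp h) ?_
  · by_contra hc
    obtain ⟨z, hz, w, hw, h1, h2, h3, h4, h5, h6, h7⟩ := exists_four hT hc
    exact h5 (Subtype.ext (h _ (hB hz) _ (hB hw) (congrArg Subtype.val h1) (congrArg Subtype.val h2)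
      (fun e => h3 (Subtype.ext e)) (fun e => h4 (Subtype.ext e)) (fun g hg => congrArg Subtype.val (h6 ⟨g, hg⟩))
      fun g hg => (h7 ⟨g, hg⟩).imp (congrArg Subtype.val) (congrArg Subtype.val)))
  · rintro ⟨x, y, n, h1, h2⟩
    refine ⟨x, y, n, map_subtype_subgroupOf hST ▸ h1.map T.subtype_injective, ?_⟩
    simpa using le_normalizer_map_subtype_of_normal (zpowers x)

theorem nc_of_syl (hS : IsSyl 2 S L) (h : NC S 1) : NC L 1 := fun u hu v hv h1 h2 h3 h4 h5 _ _ => by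
  obtain ⟨g, -, e⟩ := hS.exists_conj_le (isPGroup_sup_of_le_normalizer (pg_inv h1) (pg_inv h2) (norm_of_comm h5))
    (sup_le (zpowers_le.mpr hu) (zpowers_le.mpr hv))
  simpa using h _ (map_conj_le_iff.mp e u (mem_sup_left (mem_zpowers u))) _
    (map_conj_le_iff.mp e v (mem_sup_right (mem_zpowers v))) (by rw [conj_mul, h1]; simp) (by rw [conj_mul, h2]; simp)
    (by simpa using h3) (by simpa using h4) (h5.map (MulAut.conj g)) (Commute.one_right _) (Commute.one_right _)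

/-- the dihedral part of a dihedral or semidihedral group -/
theorem maxCl_cases {n : ℕ} (h : MaxCl x y n S) : NC S 1 ∨ ∃ x0 ∈ zpowers x, ∃ k, GD x0 y (k + 1) (zpowers x0 ⊔ zpowers y) ∧
    x0 ^ 2 ^ (k + 1) = x ^ 2 ^ (n + 1) ∧ (∀ c ∈ zpowers x, c * y * (c * y) = 1 → c ∈ zpowers x0) ∧
    𝐍(zpowers x) ≤ 𝐍(zpowers x0) := by
  rcases h.cases with ⟨h1, h2⟩ | ⟨h1, h2⟩ | ⟨hn, h1, h2⟩
  · exact Or.inr ⟨x, mem_zpowers x, n, ⟨h.ord, h.not_mem, rfl, h1, sq y ▸ h2⟩, rfl, fun c hc _ => hc, le_rfl⟩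
  · have hQ : QuatForm x y n S := ⟨h.ord, h.not_mem, h.sup, h1, h2⟩
    exact Or.inl fun u hu v hv a1 a2 a3 a4 _ _ _ => ((hQ.eq_of_sq_eq_one hu (by rwa [sq])).resolve_left a3).trans
      ((hQ.eq_of_sq_eq_one hv (by rwa [sq])).resolve_left a4).symm
  obtain ⟨k, rfl⟩ := Nat.exists_eq_add_of_le' hn
  have z2 := half_pow_mul_self h.ord
  have hxz : Commute x⁻¹ (x ^ 2 ^ (k + 1 + 1)) := ((Commute.refl x).pow_right _).inv_left
  refine Or.inr ⟨x ^ 2, pow_mem (mem_zpowers x) 2, k, ⟨by rw [orderOf_pow, h.ord, pow_succ, Nat.gcd_mul_left_left]; simp,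
    fun e => h.not_mem (zpowers_le.mpr (pow_mem (mem_zpowers x) 2) e), rfl,
    by rw [← conj_pow, h1, hxz.mul_pow, sq (x ^ _), z2, mul_one, inv_pow], sq y ▸ h2⟩, by rw [← pow_mul, ← pow_succ'],
    fun c hc e => ?_, fun g hg => mem_normalizer_zpowers ?_⟩
  · obtain ⟨j, rfl⟩ := mem_powers_iff_mem_zpowers.mpr hc
    obtain ⟨i, rfl | rfl⟩ := Nat.even_or_odd' j
    · exact ⟨i, by simp [pow_mul]⟩
    · have : x ^ (2 * i + 1) * y * (x ^ (2 * i + 1) * y) = x ^ (2 * i + 1) * (y * x * y⁻¹) ^ (2 * i + 1) * y ^ 2 := by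
        rw [conj_pow, sq]; group
      simp only at e
      rw [e, h1, h2, hxz.mul_pow, inv_pow, mul_inv_cancel_left, pow_succ, pow_mul, sq, z2, one_pow, one_mul, mul_one] at this
      exact absurd this.symm (Invol.ne_one_of_orderOf_two (orderOf_half_pow h.ord))
  · obtain ⟨j, hj⟩ := conj_mem_of_mem_normalizer hg (mem_zpowers x)
    simp only at hj
    exact ⟨j, by simp only; rw [← conj_pow, ← hj, ← zpow_natCast, ← zpow_natCast, ← zpow_mul, ← zpow_mul, mul_comm]⟩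

theorem inv_or {n k : ℕ} {x0 : G} (hS : IsSyl 2 S L) (hi : ∀ M : Subgroup L, M.index ≠ 2) (h : MaxCl x y n S)
    (hx0 : x0 ∈ zpowers x) (h0 : GD x0 y k (zpowers x0 ⊔ zpowers y)) (hz : x0 ^ 2 ^ k = x ^ 2 ^ (n + 1))
    (h1 : ∀ c ∈ zpowers x, c * y * (c * y) = 1 → c ∈ zpowers x0) (hN : 𝐍(zpowers x) ≤ 𝐍(zpowers x0))
    (htL : t ∈ 𝐍(L)) (htS : t ∈ 𝐍(S)) (htx : t ∈ 𝐍(zpowers x)) (h2 : t * t = 1) (hC : NC L t) :
    ∃ c ∈ zpowers x0, x0 ∈ zpowers c ∧ t * y * t⁻¹ = c * y ∧ t * c * t⁻¹ = c⁻¹ := by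
  have hxS : zpowers x ≤ S := zpowers_le.mpr h.a_mem
  have h0S : zpowers x0 ⊔ zpowers y ≤ S := sup_le ((zpowers_le.mpr hx0).trans hxS) (zpowers_le.mpr h.b_mem)
  obtain ⟨c, hc, e⟩ := (h.mem_iff.mp (conj_mem_of_mem_normalizer htS h.b_mem)).resolve_left fun e => h.not_mem (by
    simpa [mul_assoc] using conj_mem_of_mem_normalizer' htx e)
  have hc0 := h1 c hc (by rw [← e, conj_mul, h0.yy]; simp)
  refine (h0.stepB (fun c => h0.refl (h0S.trans hS.le) hC (hN htx)) h2 (mem_normalizer_of_cj_le (by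
    rw [Subgroup.map_sup, map_conj_eq_iff.mpr (hN htx), MonoidHom.map_zpowers]
    exact sup_le le_sup_left (zpowers_le.mpr (show t * y * t⁻¹ ∈ _ from e ▸ mul_mem (h0.le hc0) h0.yS)))) (hN htx)).resolve_right ?_
  rintro ⟨a1, a2, r, hr, a3⟩
  have hSx : S ≤ 𝐍(zpowers x) := h.sup ▸ sup_le le_normalizer (zpowers_le.mpr h.b_mem_normalizer)
  have hT := syl_sup hS (zpowers_le.mpr htL) (by
    rw [sup_comm]; exact isPGroup_sup_of_le_normalizer (pg_inv h2) hS.isPGroup (zpowers_le.mpr htS))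
  obtain ⟨g, hg, e1⟩ := fuse' hS hi h.relIndex h.b_mem h0.yy
  have htr : Commute t r := let ⟨k, hk⟩ := hr; hk ▸ a1.zpow_right k
  refine h.not_mem ((sq2 hT h.ord (c := t * r) (fun u hu => mem_cent.mpr (hz ▸ h0.zn (hN (sup_le hSx
    (zpowers_le.mpr htx) hu))).symm) (fun u hu => ?_) (mul_mem (mem_sup_right (mem_zpowers t))
    (mem_sup_left (hS.le (h0S (h0.le hr))))) (by rw [htr.symm.mul_mul_mul_comm, h2, a3, one_mul, hz])
    (mul_inv_eq_iff_eq_mul.mp ?_) (mem_sup_left hg) ((eq_one_or_eq_half_pow h.ord e1 (by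
      rw [sq, conj_mul, h0.yy]; simp)).resolve_left (by
        simpa using fun e : y = 1 => h.not_mem (e ▸ one_mem _)))) ▸ pow_mem (mem_zpowers x) _)
  · have hy : ∀ c ∈ zpowers x, ∀ d ∈ zpowers x, c * y * (d * y) ∈ zpowers x := fun c hc d hd => by
      rw [show c * y * (d * y) = c * (y * d * y⁻¹) * (y * y) by group, h0.yy, mul_one]
      exact mul_mem hc (conj_mem_of_mem_normalizer h.b_mem_normalizer hd)
    rcases mem_sup_inv htS (h2 ▸ one_mem S) hu with a | ⟨s, hs, rfl⟩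
    · rcases h.mem_iff.mp a with a | ⟨d, hd, rfl⟩
      exacts [mul_mem a a, hy d hd d hd]
    · rw [show s * t * (s * t) = s * (t * s * t⁻¹) * (t * t) by group, h2, mul_one]
      rcases h.mem_iff.mp hs with a | ⟨d, hd, rfl⟩
      · exact mul_mem a (conj_mem_of_mem_normalizer htx a)
      · rw [show t * (d * y) * t⁻¹ = t * d * t⁻¹ * (t * y * t⁻¹) by group, e, ← mul_assoc (t * d * t⁻¹)]
        exact hy d hd _ (mul_mem (conj_mem_of_mem_normalizer htx hd) hc)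
  · calc _ = t * (r * (y * r⁻¹ * y⁻¹)) * t⁻¹ * (t * y * t⁻¹) := by group
      _ = y := by
        rw [h0.inv (inv_mem hr), inv_inv, a3, (a1.pow_right _).eq, a2, mul_inv_cancel_right, ← mul_assoc, h0.z2, one_mul]

theorem four_action (hi : ∀ M : Subgroup L, M.index ≠ 2) (ha : a * a = 1) (hb : b * b = 1) (hc : Commute a b)
    (haL : a ∈ 𝐍(L)) (hbL : b ∈ 𝐍(L)) (hA : NC L a) (hB : NC L b) (hAB : NC L (a * b)) : NC L 1 := by
  have hU := sup_le (zpowers_le.mpr haL) (zpowers_le.mpr hbL)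
  obtain ⟨T, hT, hUT⟩ := exists_isSyl_ge (isPGroup_sup_of_le_normalizer (pg_inv ha) (pg_inv hb) (norm_of_comm hc))
    (le_sup_right (a := L))
  have hn := sup_le le_normalizer hU
  have hS := hT.inf_normal le_sup_left hn
  have hTS : T ≤ 𝐍(T ⊓ L) := le_normalizer_inf le_normalizer (hT.le.trans hn)
  have haT := hUT (mem_sup_left (mem_zpowers a))
  have hbT := hUT (mem_sup_right (mem_zpowers b))
  refine nc_of_syl hS ?_
  rcases rel_maxCl' hT.isPGroup inf_le_left hTS (fun z hz w hw h1 h2 h3 h4 h5 h6 => by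
    have key : ∀ t ∈ T, NC L t → t * w * t⁻¹ = w → z = w := fun t ht h e =>
      h z hz.2 w hw.2 h1 h2 h3 h4 (h5 w hw.1) (h5 t ht) (mul_inv_eq_iff_eq_mul.mp e).symm
    rcases h6 a haT with e1 | e1
    · exact key a haT hA e1
    rcases h6 b hbT with e2 | e2
    · exact key b hbT hB e2
    refine key _ (mul_mem haT hbT) hAB ?_
    calc _ = a * (b * w * b⁻¹) * a⁻¹ := by group
      _ = a * z * a⁻¹ * (a * w * a⁻¹) := by rw [e2]; group
      _ = w := by rw [e1, ← (h5 a haT).eq, mul_inv_cancel_right, ← mul_assoc, h1, one_mul]) with h | ⟨x, y, n, h, hx⟩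
  · exact fun u hu v hv h1 h2 h3 h4 _ _ _ => Invol.involution_unique_of_isCyclic h hu hv
      (Invol.orderOf_two_of h1 h3) (Invol.orderOf_two_of h2 h4)
  refine (maxCl_cases h).resolve_right ?_
  rintro ⟨x0, hx0, k, h0, hz, h1, hN⟩
  have key : ∀ t ∈ T, t * t = 1 → NC L t → ∀ u ∈ zpowers x0, t * u * t⁻¹ = u⁻¹ := fun t ht h2 hC u hu => by
    obtain ⟨c, -, c2, -, c4⟩ := inv_or hS hi h hx0 h0 hz h1 hN (hn (hT.le ht)) (hTS ht) (hx ht) h2 hC
    obtain ⟨k, rfl⟩ := zpowers_le.mpr c2 hu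
    simp only [← conj_zpow, c4, inv_zpow]
  have := key _ (mul_mem haT hbT) (by rw [hc.symm.mul_mul_mul_comm, ha, hb, one_mul]) hAB x0 (mem_zpowers x0)
  rw [show a * b * x0 * (a * b)⁻¹ = a * (b * x0 * b⁻¹) * a⁻¹ by group, key b hbT hb hB x0 (mem_zpowers x0),
    key a haT ha hA _ (inv_mem (mem_zpowers x0)), inv_inv, eq_inv_iff_mul_eq_one] at this
  exact h0.z1 (by rw [pow_succ', pow_mul, sq, this, one_pow])

theorem nc_iff : NC L 1 ↔ Cfsg.PRankLE 2 1 L := by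
  classical
  refine ⟨fun h E hE h2 => ?_, fun h u hu v hv h1 h2 h3 h4 h5 _ _ => ?_⟩
  · by_contra hn
    haveI := Fintype.ofFinite E
    obtain ⟨u, hu, v, hv, e⟩ := Finset.one_lt_card.mp (show 1 < (Finset.univ.erase (1 : E)).card by
      rw [Finset.card_erase_of_mem (Finset.mem_univ _), Finset.card_univ, ← Nat.card_eq_fintype_card]; omega)
    exact e (Subtype.ext (Subtype.ext (h _ u.1.2 _ v.1.2 (congrArg Subtype.val (sq u.1 ▸ h2 _ u.2))
      (congrArg Subtype.val (sq v.1 ▸ h2 _ v.2)) (fun e => Finset.ne_of_mem_erase hu (Subtype.ext (Subtype.ext e)))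
      (fun e => Finset.ne_of_mem_erase hv (Subtype.ext (Subtype.ext e)))
      (congrArg Subtype.val (setLike_mul_comm u.2 v.2)) (Commute.one_right _) (Commute.one_right _))))
  · by_contra hn
    have g : GD (⟨u, hu⟩ : L) ⟨v, hv⟩ 0 (zpowers ⟨u, hu⟩ ⊔ zpowers ⟨v, hv⟩) := by
      have ho : orderOf (⟨u, hu⟩ : L) = 2 := by rw [← orderOf_coe, Invol.orderOf_two_of h1 h3]
      refine ⟨ho, fun e => ?_, rfl, Subtype.ext ?_, Subtype.ext h2⟩
      · rcases (mem_zpowers_iff_of_orderOf_two ho).mp e with e | e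
        exacts [h4 (congrArg Subtype.val e), hn (congrArg Subtype.val e).symm]
      · simp [← h5.eq, inv_eq_of_mul_eq_one_right h1]
    have := h _ (isMulCommutative_sup_zpowers (x := (⟨v, hv⟩ : L)) (A := zpowers ⟨u, hu⟩) (by
      rw [zpowers_eq_closure, centralizer_closure]; exact mem_cent.mpr (Subtype.ext h5.symm))) fun a ha => by
        rcases g.cases ha with e | ⟨c, hc, rfl⟩
        · obtain ⟨k, rfl⟩ := e
          rw [sq, ← (Commute.refl _).mul_zpow, show (⟨u, hu⟩ : L) * ⟨u, hu⟩ = 1 from Subtype.ext h1, one_zpow]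
        · exact sq (c * _) ▸ g.rr hc
    rw [card_sup_zpowers (p := 2) g.yN g.not_mem (by rw [sq, g.yy]; exact one_mem _), Nat.card_zpowers, g.ord] at this
    omega

theorem index_ne_two (h : Cfsg.layer L = ⊤) (M : Subgroup L) : M.index ≠ 2 := fun e => by
  have h1 := commutator_EOf (⊤ : Subgroup L)
  rw [EOf_top, h] at h1
  have h2 : (⊤ : Subgroup L) ≤ M := h1 ▸ commutator_le.mpr fun a _ b _ => by
    simp only [commutatorElement_def, mul_mem_iff_of_index_two e, inv_mem_iff]; tauto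
  rw [top_le_iff.mp h2, index_top] at e
  omega

end Cfsg.Agent.Lib.Dih
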