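/- Transfer lemmas for an involution with cyclic fixed Sylow subgroup of order four.  Owner: helper2. -/
import Cfsg.Agent.Lib.Dih.Four

set_option autoImplicit false
set_option linter.unusedSectionVars false

namespace Cfsg.Agent.Lib.Dih

open Subgroup Cfsg.Agent.Lib Cfsg.Agent.Lib.Core Cfsg.Agent.Lib.PGroup Cfsg.Agent.Lib.Glaub
open scoped Cfsg.Agent.Lib.Glaub commutatorElement IsMulCommutative

variable {G : Type*} [Group G] [Finite G] {L S H T X : Subgroup G} {x y c d s t u v a b : G} {m : ℕ}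

/-- Thompson transfer for two involutions in one coset of a subgroup without subgroups of index two -/
theorem two_class (hT : IsSyl 2 T H) (hL : L ≤ H) (hi : ∀ M : Subgroup L, M.index ≠ 2) (hX : X.relIndex T = 2)
    (ht : t ∈ T) (hv : v ∈ T) (htv : t * v ∈ L) (h2 : t * t = 1) (h3 : v * v = 1) (h4 : ∀ g ∈ H, g * t * g⁻¹ ∉ X)
    (h5 : ∀ g ∈ H, g * v * g⁻¹ ∈ T → g * v * g⁻¹ ∈ X) : False := by
  obtain ⟨P, hP⟩ := hT.exists_sylow
  set Q := (X.subgroupOf H).subgroupOf (P : Subgroup H) with hQ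
  have hQi : Q.index = 2 := by
    change (X.subgroupOf H).relIndex P = 2
    rw [hP, relIndex_subgroupOf hT.le, hX]
  haveI : Q.Normal := normal_of_index_eq_two hQi
  haveI : IsCyclic (P ⧸ Q) := isCyclic_of_prime_card (p := 2) hQi
  have htP : (⟨t, hT.le ht⟩ : H) ∈ (P : Subgroup H) := hP ▸ ht
  let φ := QuotientGroup.mk' Q
  let V : H →* P ⧸ Q := MonoidHom.transfer φ
  have hu1 : φ ⟨_, htP⟩ ≠ 1 := fun e => h4 1 (one_mem H) (by
    simpa [hQ, mem_subgroupOf] using (QuotientGroup.eq_one_iff (N := Q) ⟨_, htP⟩).1 e)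
  have hu2 : φ ⟨_, htP⟩ ^ 2 = 1 := by
    rw [← map_pow, show (⟨_, htP⟩ : P) ^ 2 = 1 from Subtype.ext (Subtype.ext (by simpa [sq] using h2)), map_one]
  have e2 : (⟨t, hT.le ht⟩ : H) ^ 2 = 1 := Subtype.ext (by simpa [sq] using h2)
  have e3 : (⟨v, hT.le hv⟩ : H) ^ 2 = 1 := Subtype.ext (by simpa [sq] using h3)
  have hV : V ⟨t, hT.le ht⟩ = φ ⟨_, htP⟩ ^ (P : Subgroup H).index := by
    apply Transfer.transfer_eq_pow_of_forall
    intro k g hk
    rcases Nat.even_or_odd' k with ⟨j, rfl | rfl⟩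
    · rw [show (⟨_, hk⟩ : P) = 1 from Subtype.ext (by simp [pow_mul, e2]), map_one, pow_mul, hu2, one_pow]
    · rw [pow_succ (φ ⟨_, htP⟩), pow_mul, hu2, one_pow, one_mul, QuotientGroup.mk'_apply,
        QuotientGroup.mk'_apply, QuotientGroup.eq_iff_div_mem, div_eq_mul_inv,
        mul_mem_iff_of_index_two hQi, inv_mem_iff, mem_subgroupOf, mem_subgroupOf, mem_subgroupOf, mem_subgroupOf]
      have a1 := h4 _ (inv_mem g.2)
      have a2 := h4 1 (one_mem H)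
      simp only [pow_succ, pow_mul, e2]
      simp only [inv_inv, one_mul, inv_one, mul_one] at a1 a2
      simpa [a2] using a1
  have hW : V ⟨v, hT.le hv⟩ = 1 ^ (P : Subgroup H).index := by
    apply Transfer.transfer_eq_pow_of_forall
    intro k g hk
    rcases Nat.even_or_odd' k with ⟨j, rfl | rfl⟩
    · rw [show (⟨_, hk⟩ : P) = 1 from Subtype.ext (by simp [pow_mul, e3]), map_one, one_pow]
    · rw [one_pow, QuotientGroup.mk'_apply, QuotientGroup.eq_one_iff, mem_subgroupOf, mem_subgroupOf]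
      rw [hP, mem_subgroupOf] at hk
      simp only [pow_succ, pow_mul, e3] at hk ⊢
      simpa using h5 _ (inv_mem g.2) (by simpa using hk)
  obtain ⟨j, hj⟩ : Odd (P : Subgroup H).index := by
    rw [← Nat.not_even_iff_odd, even_iff_two_dvd]; exact P.not_dvd_index
  rw [hj, pow_succ, pow_mul, hu2, one_pow, one_mul] at hV
  have h6 : (V.comp (inclusion hL)).ker.index ∣ 2 := by
    rw [index_ker]; exact (card_subgroup_dvd_card _).trans (dvd_of_eq hQi)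
  rcases (Nat.dvd_prime Nat.prime_two).mp h6 with e | e
  · have : (⟨t * v, htv⟩ : L) ∈ (V.comp (inclusion hL)).ker := index_eq_one.mp e ▸ mem_top _
    rw [MonoidHom.mem_ker, MonoidHom.comp_apply, show inclusion hL ⟨t * v, htv⟩ = ⟨t, hT.le ht⟩ * ⟨v, hT.le hv⟩ from rfl,
      map_mul, hV, hW, one_pow, mul_one] at this
    exact hu1 this
  · exact hi _ e

theorem cyc_idx (hS : IsSyl 2 S L) (hi : ∀ M : Subgroup L, M.index ≠ 2) (hT : IsSyl 2 T H) (hL : L ≤ H)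
    (ho : orderOf x = 2 ^ (m + 1)) (hX : X.relIndex S = 2) (hXx : ∀ a ∈ X, a * a = 1 → a ∈ zpowers x)
    (hz : T ≤ centralizer {x ^ 2 ^ m}) (hsq : ∀ u ∈ T, u * u ∈ zpowers x) (hy : y ∈ S) (h1 : y * y = 1)
    (hyx : y ∉ zpowers x) (hc : c ∈ H) (h2 : c * c = x ^ 2 ^ m) (hcy : Commute c y) : False := by
  obtain ⟨g, hg, e⟩ := fuse' hS hi hX hy h1
  have e1 : g * y * g⁻¹ * (g * y * g⁻¹) = 1 := by rw [conj_mul, h1]; simp
  rcases eq_one_or_eq_half_pow ho (hXx _ e e1) (by rwa [sq]) with e2 | e2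
  · exact hyx (by rw [show y = 1 by simpa using e2]; exact one_mem _)
  · exact hyx (sq2 hT ho hz hsq hc h2 hcy (hL hg) e2 ▸ pow_mem (mem_zpowers x) _)

theorem NC.conj (h : NC L t) {g : G} (hg : g ∈ 𝐍(L)) : NC L (g * t * g⁻¹) := fun u hu v hv h1 h2 h3 h4 h5 h6 h7 => by
  have key : ∀ w : G, Commute w (g * t * g⁻¹) → Commute (g⁻¹ * w * g⁻¹⁻¹) t := fun w hw => by
    simpa [mul_assoc] using hw.map (MulAut.conj g⁻¹)
  simpa using h _ (conj_mem_of_mem_normalizer (inv_mem hg) hu) _ (conj_mem_of_mem_normalizer (inv_mem hg) hv)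
    (by rw [conj_mul, h1]; simp) (by rw [conj_mul, h2]; simp) (mt conj_eq_one_iff.mp h3) (mt conj_eq_one_iff.mp h4)
    (h5.map (MulAut.conj g⁻¹)) (key u h6) (key v h7)

/-- fusion under `L` -/
def Fz (L : Subgroup G) (a b : G) : Prop := ∃ g ∈ L, g * a * g⁻¹ = b

theorem Fz.symm (h : Fz L a b) : Fz L b a := let ⟨g, hg, e⟩ := h; ⟨g⁻¹, inv_mem hg, by rw [← e]; group⟩

theorem Fz.trans (h : Fz L a b) (h' : Fz L b c) : Fz L a c :=
  let ⟨g, hg, e⟩ := h; let ⟨k, hk, e'⟩ := h'; ⟨k * g, mul_mem hk hg, by rw [← e', ← e]; group⟩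

theorem relIndex_two_of_card (h : X ≤ S) (e : Nat.card S = Nat.card X * 2) : X.relIndex S = 2 :=
  Nat.eq_of_mul_eq_mul_left (Nat.card_pos (α := X)) ((card_mul_relIndex h).trans e)

theorem mul_mem_idx (h : X.relIndex S = 2) (ha : a ∈ S) (hb : b ∈ S) (ha' : a ∉ X) (hb' : b ∉ X) : a * b ∈ X :=
  (mul_mem_iff_of_index_two h (a := ⟨a, ha⟩) (b := ⟨b, hb⟩)).mpr (iff_of_false ha' hb')

/-- `S = (⟨d⟩ × ⟨u⟩)⟨s⟩` with `s` inverting `d` -/
structure NS (d u s : G) (m : ℕ) (S : Subgroup G) : Prop where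
  ord : orderOf d = 2 ^ (m + 2)
  uu : u * u = 1
  ud : Commute u d
  un : u ∉ zpowers d
  inv : s * d * s⁻¹ = d⁻¹
  ss : s * s = 1 ∨ s * s = d ^ 2 ^ (m + 1)
  su : s * u * s⁻¹ = u ∨ s * u * s⁻¹ = d ^ 2 ^ (m + 1) * u
  sn : s ∉ zpowers d ⊔ zpowers u
  sup : zpowers d ⊔ zpowers u ⊔ zpowers s = S

namespace NS
variable (h : NS d u s m S)
include h

theorem z2 : d ^ 2 ^ (m + 1) * d ^ 2 ^ (m + 1) = 1 := half_pow_mul_self h.ord
theorem z1 : d ^ 2 ^ (m + 1) ≠ 1 := Invol.ne_one_of_orderOf_two (orderOf_half_pow h.ord)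
theorem ua (ha : a ∈ zpowers d) : Commute u a := let ⟨k, hk⟩ := ha; hk ▸ h.ud.zpow_right k
theorem sa (ha : a ∈ zpowers d) : s * a * s⁻¹ = a⁻¹ := by
  obtain ⟨i, rfl⟩ := ha
  simp only [Invol.conj_zpow_of_inverts h.inv, zpow_neg]
theorem uN : u ∈ 𝐍(zpowers d) := norm_of_comm h.ud (mem_zpowers u)
theorem memN (ha : a ∈ zpowers d ⊔ zpowers u) : a ∈ zpowers d ∨ ∃ c ∈ zpowers d, a = c * u :=
  mem_sup_inv h.uN (h.uu ▸ one_mem _) ha
theorem zd : d ^ 2 ^ (m + 1) ∈ zpowers d := pow_mem (mem_zpowers d) _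
theorem sN : s ∈ 𝐍(zpowers d ⊔ zpowers u) := mem_normalizer_of_cj_le (by
  rw [Subgroup.map_sup, MonoidHom.map_zpowers, MonoidHom.map_zpowers]
  refine sup_le (zpowers_le.mpr ?_) (zpowers_le.mpr ?_)
  · exact show s * d * s⁻¹ ∈ _ from h.inv ▸ mem_sup_left (inv_mem (mem_zpowers d))
  · change s * u * s⁻¹ ∈ _
    rcases h.su with e | e <;> rw [e]
    exacts [mem_sup_right (mem_zpowers u), mul_mem (mem_sup_left h.zd) (mem_sup_right (mem_zpowers u))])
theorem ssd : s * s ∈ zpowers d := by rcases h.ss with e | e <;> rw [e]; exacts [one_mem _, h.zd]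
theorem mem (ha : a ∈ S) : a ∈ zpowers d ⊔ zpowers u ∨ ∃ c ∈ zpowers d ⊔ zpowers u, a = c * s :=
  mem_sup_inv h.sN (mem_sup_left h.ssd) (h.sup ▸ ha)
theorem le : zpowers d ⊔ zpowers u ≤ S := h.sup ▸ le_sup_left
theorem sS : s ∈ S := h.sup ▸ mem_sup_right (mem_zpowers s)
theorem uS : u ∈ S := h.le (mem_sup_right (mem_zpowers u))
theorem dS (ha : a ∈ zpowers d) : a ∈ S := h.le (mem_sup_left ha)
theorem comN (ha : a ∈ zpowers d ⊔ zpowers u) (hb : b ∈ zpowers d) : Commute a b := by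
  rcases h.memN ha with e | ⟨c, hc, rfl⟩
  exacts [comm_zp e hb, Commute.mul_left (comm_zp hc hb) (h.ua hb)]
theorem out (ha : a ∈ S) (hn : a ∉ zpowers d ⊔ zpowers u) (hb : b ∈ zpowers d) : a * b * a⁻¹ = b⁻¹ := by
  obtain ⟨c, hc, rfl⟩ := (h.mem ha).resolve_left hn
  rw [show c * s * b * (c * s)⁻¹ = c * (s * b * s⁻¹) * c⁻¹ by group, h.sa hb, (h.comN hc (inv_mem hb)).eq,
    mul_inv_cancel_right]
theorem zc : S ≤ centralizer {d ^ 2 ^ (m + 1)} := fun a ha => mem_cent.mpr (by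
  by_cases e : a ∈ zpowers d ⊔ zpowers u
  · exact h.comN e h.zd
  · exact mul_inv_eq_iff_eq_mul.mp ((h.out ha e h.zd).trans (inv_eq_of_mul_eq_one_right h.z2)))
theorem sq (a : G) (ha : a ∈ S) : a * a ∈ zpowers d := by
  rcases h.mem ha with e | ⟨c, hc, rfl⟩
  · rcases h.memN e with e | ⟨c, hc, rfl⟩
    · exact mul_mem e e
    · rw [(h.ua hc).mul_mul_mul_comm, h.uu, mul_one]; exact mul_mem hc hc
  · rw [show c * s * (c * s) = c * (s * c * s⁻¹) * (s * s) by group]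
    refine mul_mem ?_ h.ssd
    rcases h.memN hc with e | ⟨c, hc', rfl⟩
    · rw [h.sa e, mul_inv_cancel]; exact one_mem _
    · rw [show s * (c * u) * s⁻¹ = s * c * s⁻¹ * (s * u * s⁻¹) by group, h.sa hc', ← (h.ua hc').eq, ← mul_assoc,
        mul_inv_cancel_right]
      rcases h.su with e | e <;> rw [e]
      · rw [h.uu]; exact one_mem _
      · rw [← mul_assoc, (h.ua h.zd).eq, mul_assoc, h.uu, mul_one]; exact h.zd
theorem rho : d ^ 2 ^ m * d ^ 2 ^ m = d ^ 2 ^ (m + 1) := by rw [← pow_add, ← mul_two, ← pow_succ]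
theorem card : Nat.card S = 2 ^ (m + 2) * 2 * 2 := by
  rw [← h.sup, card_sup_zpowers (p := 2) h.sN h.sn (by rw [_root_.sq]; exact mem_sup_left h.ssd),
    card_sup_zpowers (p := 2) h.uN h.un (by rw [_root_.sq, h.uu]; exact one_mem _), Nat.card_zpowers, h.ord]
theorem invN (ha : a ∈ zpowers d ⊔ zpowers u) (h2 : a * a = 1) :
    a = 1 ∨ a = d ^ 2 ^ (m + 1) ∨ a = u ∨ a = d ^ 2 ^ (m + 1) * u := by
  rcases h.memN ha with e | ⟨c, hc, rfl⟩
  · exact (eq_one_or_eq_half_pow h.ord e (by rwa [_root_.sq])).imp_right Or.inl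
  · rw [(h.ua hc).mul_mul_mul_comm, h.uu, mul_one] at h2
    rcases eq_one_or_eq_half_pow h.ord hc (by rwa [_root_.sq]) with rfl | rfl <;> simp
theorem fz (hS : S ≤ L) (ha : a ∈ S) (hn : a ∉ zpowers d ⊔ zpowers u) : Fz L a (d ^ 2 ^ (m + 1) * a) :=
  ⟨d ^ 2 ^ m, hS (h.dS (pow_mem (mem_zpowers d) _)), by
    rw [← h.rho, mul_assoc, mul_assoc, mul_right_inj, ← mul_inv_eq_iff_eq_mul,
      h.out ha hn (inv_mem (pow_mem (mem_zpowers d) _)), inv_inv]⟩

theorem elim (hS : IsSyl 2 S L) (hi : ∀ M : Subgroup L, M.index ≠ 2) : False := by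
  have hr := pow_mem (mem_zpowers d) (2 ^ m)
  have uN : u ∈ zpowers d ⊔ zpowers u := mem_sup_right (mem_zpowers u)
  have zN : d ^ 2 ^ (m + 1) ∈ zpowers d ⊔ zpowers u := mem_sup_left h.zd
  have quat : ∀ w ∈ S, w ∉ zpowers d ⊔ zpowers u → w * w ≠ d ^ 2 ^ (m + 1) := fun w hw hn e => by
    have hQ : QuatForm d w m (zpowers d ⊔ zpowers w) :=
      ⟨h.ord, fun e => hn (mem_sup_left e), rfl, h.out hw hn (mem_zpowers d), by rwa [_root_.sq]⟩
    refine cyc_idx hS hi hS le_rfl h.ord (relIndex_two_of_card (sup_le (fun _ => h.dS) (zpowers_le.mpr hw))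
      (by rw [h.card, hQ.maxCl.card, pow_succ 2 (m + 2)])) (fun a ha h2 => ?_) h.zc h.sq h.uS h.uu h.un
      (hS.le (h.dS hr)) h.rho (h.ua hr).symm
    rcases hQ.eq_of_sq_eq_one ha (by rwa [_root_.sq]) with rfl | rfl
    exacts [one_mem _, h.zd]
  have ss := h.ss.resolve_right (quat s h.sS h.sn)
  have su : Commute s u := mul_inv_eq_iff_eq_mul.mp (h.su.resolve_right fun e =>
    quat (u * s) (mul_mem h.uS h.sS) (fun e => h.sn ((mul_mem_cancel_left uN).mp e)) (by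
      rw [show u * s * (u * s) = u * (s * u * s⁻¹) * (s * s) by group, e, ss, mul_one, ← mul_assoc, (h.ua h.zd).eq,
        mul_assoc, h.uu, mul_one]))
  have uc : S ≤ centralizer {u} := fun a ha => mem_cent.mpr (by
    have key : ∀ a ∈ zpowers d ⊔ zpowers u, Commute a u := fun a ha => by
      rcases h.memN ha with e | ⟨c, hc, rfl⟩
      exacts [(h.ua e).symm, (h.ua hc).symm.mul_left (Commute.refl u)]
    rcases h.mem ha with e | ⟨c, hc, rfl⟩
    exacts [key a e, (key c hc).mul_left su])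
  have n1 : ¬ Fz L u (d ^ 2 ^ (m + 1)) := fun ⟨g, hg, e⟩ =>
    h.un (sq2 hS h.ord h.zc h.sq (hS.le (h.dS hr)) h.rho (h.ua hr).symm hg e ▸ h.zd)
  have n2 : ¬ Fz L (d ^ 2 ^ (m + 1) * u) (d ^ 2 ^ (m + 1)) := fun ⟨g, hg, e⟩ => by
    have := sq2 hS h.ord h.zc h.sq (hS.le (h.dS hr)) h.rho (Commute.mul_right (comm_zp hr h.zd) (h.ua hr).symm) hg e
    exact h.un (by rw [show u = 1 by simpa using this]; exact one_mem _)
  have n3 : ¬ Fz L u (d ^ 2 ^ (m + 1) * u) := fun ⟨g, hg, e⟩ => nonconj hS uc h.z2 h.z1 (fun n hn => by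
    have := h.sq _ (conj_mem_of_mem_normalizer hn (h.dS hr))
    rw [conj_mul, h.rho] at this
    exact (eq_one_or_eq_half_pow h.ord this (by rw [_root_.sq, conj_mul, h.z2]; simp)).resolve_left
      (mt conj_eq_one_iff.mp h.z1)) h.zc hg (e.trans (h.ua h.zd).eq.symm)
  have u1 : u ≠ 1 := fun e => h.un (e ▸ one_mem _)
  obtain ⟨y, hy, yn, e1, e2⟩ : ∃ y ∈ S, y ∉ zpowers d ⊔ zpowers u ∧ Fz L u y ∧ Fz L u (u * y) := by
    by_contra hn
    push Not at hn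
    have pick : ∀ y ∈ S, y ∉ zpowers d ⊔ zpowers u → ∃ e ∈ zpowers u, ¬ Fz L u (e * y) := fun y hy yn => by
      by_cases e : Fz L u y
      exacts [⟨u, mem_zpowers u, hn y hy yn e⟩, ⟨1, one_mem _, by rwa [one_mul]⟩]
    have dN : d ∈ zpowers d ⊔ zpowers u := mem_sup_left (mem_zpowers d)
    obtain ⟨e, he, a1⟩ := pick s h.sS h.sn
    obtain ⟨f, hf, a2⟩ := pick (d * s) (mul_mem (h.le dN) h.sS) fun e => h.sn ((mul_mem_cancel_left dN).mp e)
    have k1 : ∀ w ∈ zpowers u, w * w = 1 ∧ ∀ a ∈ S, Commute a w := by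
      rintro _ ⟨k, rfl⟩
      exact ⟨by rw [← (Commute.refl u).mul_zpow, h.uu, one_zpow], fun a ha => (mem_cent.mp (uc ha)).zpow_right k⟩
    obtain ⟨w1, w2⟩ := k1 _ (mul_mem hf he)
    have p1 : (d * (f * e)) ^ 2 = d ^ 2 := by rw [(w2 d (h.le dN)).mul_pow, _root_.sq (f * e), w1, mul_one]
    have p2 : (d * (f * e)) ^ 2 ^ (m + 1) = d ^ 2 ^ (m + 1) := by rw [pow_succ', pow_mul, p1, ← pow_mul]
    have xN := mul_mem dN (mem_sup_right (mul_mem hf he))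
    have eN : e ∈ zpowers d ⊔ zpowers u := mem_sup_right he
    have sn : e * s ∉ zpowers d ⊔ zpowers u := fun a => h.sn ((mul_mem_cancel_left eN).mp a)
    have hD : DihForm (d * (f * e)) (e * s) m (zpowers (d * (f * e)) ⊔ zpowers (e * s)) := ⟨orderOf_eq_prime_pow
      (p2 ▸ h.z1) (by rw [pow_succ, pow_mul, p2, _root_.sq, h.z2]), fun a => sn (zpowers_le.mpr xN a), rfl, by
        rw [← conj_mul, h.out (mul_mem (h.le eN) h.sS) sn (mem_zpowers d), (w2 _ (mul_mem (h.le eN) h.sS)).eq,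
          mul_inv_cancel_right, mul_inv_rev d, inv_eq_of_mul_eq_one_right w1, (w2 _ (inv_mem (h.le dN))).eq], by
        rw [_root_.sq, ((k1 e he).2 s h.sS).mul_mul_mul_comm, (k1 e he).1, ss, mul_one]⟩
    have xS : zpowers (d * (f * e)) ≤ L := (zpowers_le.mpr (h.le xN)).trans hS.le
    obtain ⟨g, hg, a3⟩ := fuse' hS hi (relIndex_two_of_card (sup_le (zpowers_le.mpr (h.le xN))
      (zpowers_le.mpr (mul_mem (h.le eN) h.sS))) (by rw [h.card, hD.maxCl.card, pow_succ 2 (m + 2)])) h.uS h.uu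
    rcases hD.maxCl.mem_iff.mp a3 with a | ⟨c, hc, a⟩
    · rcases df_inv2 hD a (by rw [conj_mul, h.uu]; simp) with a | a
      exacts [u1 (conj_eq_one_iff.mp a), n1 ⟨g, hg, a.trans p2⟩]
    · obtain ⟨j, rfl⟩ := hc
      obtain ⟨i, rfl | rfl⟩ := Int.even_or_odd' j
      · obtain ⟨k, hk, a4⟩ := df_conj hD (c' := 1) ⟨2 * i, rfl⟩ ⟨-i, by simp [zpow_mul, zpow_ofNat]⟩
        exact a1 (Fz.trans ⟨g, hg, a⟩ ⟨k, xS hk, by rw [a4, one_mul]⟩)
      · obtain ⟨k, hk, a4⟩ := df_conj hD (c' := d * (f * e)) ⟨2 * i + 1, rfl⟩ ⟨-i, by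
          simp only [← zpow_natCast, ← zpow_mul]; group⟩
        refine a2 (Fz.trans ⟨g, hg, a⟩ ⟨k, xS hk, ?_⟩)
        rw [a4, mul_assoc d, mul_assoc f, ← mul_assoc e, (k1 e he).1, one_mul, ← mul_assoc, ((k1 f hf).2 d (h.le dN)).eq,
          mul_assoc]
  obtain ⟨g1, hg1, a1⟩ := e1.symm
  obtain ⟨k, hk, a2⟩ := (hS.mono (K := L ⊓ centralizer {u}) (le_inf hS.le uc) inf_le_left).exists_conj_le
    (Q := cj(g1, S ⊓ centralizer {y})) (hS.isPGroup.to_inf_left.map _) (map_conj_le_iff.mpr fun a ha =>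
      mem_inf.mpr ⟨mul_mem (mul_mem hg1 (hS.le ha.1)) (inv_mem hg1), mem_cent.mpr (a1 ▸ (mem_cent.mp ha.2).map (MulAut.conj g1))⟩)
  rw [map_conj_map_conj] at a2
  have hg := mul_mem hk.1 hg1
  have a3 : k * g1 * y * (k * g1)⁻¹ = u := by
    rw [show k * g1 * y * (k * g1)⁻¹ = k * (g1 * y * g1⁻¹) * k⁻¹ by group, a1, (mem_cent.mp hk.2).eq, mul_inv_cancel_right]
  generalize k * g1 = g at hg a2 a3
  have b1 := map_conj_le_iff.mp a2 u ⟨h.uS, mem_cent.mpr (mem_cent.mp (uc hy)).symm⟩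
  have b2 := map_conj_le_iff.mp a2 _ ⟨h.dS h.zd, mem_cent.mpr (mem_cent.mp (h.zc hy)).symm⟩
  have c1 : g * u * g⁻¹ ∉ zpowers d ⊔ zpowers u := fun a => by
    rcases h.invN a (by rw [conj_mul, h.uu]; simp) with a | a | a | a
    · exact u1 (conj_eq_one_iff.mp a)
    · exact n1 ⟨g, hg, a⟩
    · exact yn (by rw [show y = u by simpa using a3.trans a.symm]; exact uN)
    · exact n3 ⟨g, hg, a⟩
  by_cases c2 : g * d ^ 2 ^ (m + 1) * g⁻¹ ∈ zpowers d ⊔ zpowers u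
  · rcases h.invN c2 (by rw [conj_mul, h.z2]; simp) with a | a | a | a
    · exact h.z1 (conj_eq_one_iff.mp a)
    · exact n3 (Fz.trans ⟨g, hg, rfl⟩ ((h.fz hS.le b1 c1).trans (Fz.symm ⟨g, hg, by rw [← conj_mul, a]⟩)))
    · exact n1 (Fz.symm ⟨g, hg, a⟩)
    · exact n2 (Fz.symm ⟨g, hg, a⟩)
  · have c3 := mul_mem_idx (h.sup ▸ relIndex_sup_zpowers (p := 2) h.sN h.sn
      (by rw [_root_.sq]; exact mem_sup_left h.ssd)) b2 b1 c2 c1
    rw [conj_mul] at c3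
    have zu : d ^ 2 ^ (m + 1) * u * (d ^ 2 ^ (m + 1) * u) = 1 := by
      rw [(h.ua h.zd).mul_mul_mul_comm, h.z2, h.uu, mul_one]
    rcases h.invN c3 (by rw [conj_mul, zu]; simp) with a | a | a | a
    · exact h.un ((mul_mem_cancel_left h.zd).mp (conj_eq_one_iff.mp a ▸ one_mem _))
    · exact n2 ⟨g, hg, a⟩
    · exact n3 (Fz.symm ⟨g, hg, a⟩)
    · refine n1 (e2.trans ((h.fz hS.le (mul_mem h.uS hy) fun a => yn ((mul_mem_cancel_left uN).mp a)).trans ⟨g, hg, ?_⟩))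
      rw [← mul_assoc (d ^ _), ← conj_mul, a, a3, mul_assoc, h.uu, mul_one]

end NS

end Cfsg.Agent.Lib.Dih
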