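/- An involution with cyclic fixed Sylow subgroup of order four: maximal class case.  Owner: helper2. -/
import Cfsg.Agent.Lib.Dih.Cyc4

set_option autoImplicit false
set_option linter.unusedSectionVars false

namespace Cfsg.Agent.Lib.Dih

open Subgroup Cfsg.Agent.Lib Cfsg.Agent.Lib.Core Cfsg.Agent.Lib.PGroup Cfsg.Agent.Lib.Glaub
open scoped Cfsg.Agent.Lib.Glaub commutatorElement IsMulCommutative

variable {G : Type*} [Group G] [Finite G] {L S H T X : Subgroup G} {x y c d s t u v a b r : G} {m n : ℕ}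

theorem gen_or' (ho : orderOf x = 2 ^ m) (hc : c ∈ zpowers x) : x ∈ zpowers c ∨ ∃ d ∈ zpowers x, c = d * d := by
  obtain ⟨k, rfl⟩ := (mem_powers_iff_mem_zpowers.mpr hc)
  rcases Nat.even_or_odd k with ⟨j, rfl⟩ | hk
  · exact Or.inr ⟨x ^ j, pow_mem (mem_zpowers x) j, pow_add x j j⟩
  · exact Or.inl (mem_zpowers_pow_iff.mpr (ho ▸ (Nat.coprime_two_right.mpr hk).pow_right _))

theorem par (hc : c ∈ zpowers x) : ∃ k ∈ zpowers x, c = k * k ∨ c = k * k * x := by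
  obtain ⟨j, rfl⟩ := hc
  obtain ⟨i, rfl | rfl⟩ := Int.even_or_odd' j
  exacts [⟨x ^ i, ⟨i, rfl⟩, Or.inl (by simp only [two_mul, zpow_add])⟩,
    ⟨x ^ i, ⟨i, rfl⟩, Or.inr (by simp only [two_mul, zpow_add, zpow_one])⟩]

theorem sq_mem_sq (hc : c ∈ zpowers x) : c * c ∈ zpowers (x ^ 2) :=
  let ⟨k, hk⟩ := hc; ⟨k, by simp only [← hk, sq, (Commute.refl x).mul_zpow]⟩

theorem cent_half (ho : orderOf x = 2 ^ (m + 1)) (hg : a ∈ 𝐍(zpowers x)) : Commute a (x ^ 2 ^ m) :=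
  mul_inv_eq_iff_eq_mul.mp ((eq_one_or_eq_half_pow ho (conj_mem_of_mem_normalizer hg (pow_mem (mem_zpowers x) _)) (by
    rw [sq, conj_mul, half_pow_mul_self ho]; simp)).resolve_left
      (mt conj_eq_one_iff.mp (Invol.ne_one_of_orderOf_two (orderOf_half_pow ho))))

theorem sq_idx (hX : X.relIndex S = 2) (u : G) (hu : u ∈ S) : u * u ∈ X := by
  by_cases e : u ∈ X
  exacts [mul_mem e e, mul_mem_idx hX hu hu e e]

theorem sq_sup (hX : X.relIndex S = 2) (htS : t ∈ 𝐍(S)) (htX : t ∈ 𝐍(X)) (h2 : t * t = 1) (u : G)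
    (hu : u ∈ S ⊔ zpowers t) : u * u ∈ X := by
  rcases mem_sup_inv htS (h2 ▸ one_mem S) hu with e | ⟨s, hs, rfl⟩
  · exact sq_idx hX u e
  · rw [show s * t * (s * t) = s * (t * s * t⁻¹) * (t * t) by group, h2, mul_one]
    by_cases e : s ∈ X
    exacts [mul_mem e (conj_mem_of_mem_normalizer htX e), mul_mem_idx hX hs (conj_mem_of_mem_normalizer htS hs) e
      fun h => e (by simpa [mul_assoc] using conj_mem_of_mem_normalizer' htX h)]

theorem conj_not_mem (ht : t ∈ 𝐍(L)) (hv : v ∉ L) {g : G} (hg : g ∈ L ⊔ zpowers t) : g * v * g⁻¹ ∉ L := fun e =>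
  hv (by simpa [mul_assoc] using conj_mem_of_mem_normalizer' (sup_le le_normalizer (zpowers_le.mpr ht) hg) e)

/-- the hypotheses: `t` an involution outside `L`, `C_S(t) = ⟨r⟩` cyclic of order four -/
structure C4 (L S : Subgroup G) (t r : G) : Prop where
  hi : ∀ M : Subgroup L, M.index ≠ 2
  hS : IsSyl 2 S L
  hT : IsSyl 2 (S ⊔ zpowers t) (L ⊔ zpowers t)
  tL : t ∈ 𝐍(L)
  tS : t ∈ 𝐍(S)
  tt : t * t = 1
  tn : t ∉ L
  rS : r ∈ S
  ord : orderOf r = 2 ^ (1 + 1)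
  rt : Commute r t
  cent : ∀ s ∈ S, Commute s t → s ∈ zpowers r
  nc : NC L t

namespace C4
variable (h : C4 L S t r)
include h

theorem mem (ha : a ∈ S ⊔ zpowers t) : a ∈ S ∨ ∃ s ∈ S, a = s * t := mem_sup_inv h.tS (h.tt ▸ one_mem S) ha
theorem tT : t ∈ S ⊔ zpowers t := mem_sup_right (mem_zpowers t)
theorem norm {g : G} (hg : g ∈ L ⊔ zpowers t) : g ∈ 𝐍(L) := sup_le le_normalizer (zpowers_le.mpr h.tL) hg
theorem card : Nat.card ↥(S ⊔ zpowers t) = Nat.card S * 2 :=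
  card_sup_zpowers (p := 2) h.tS (fun e => h.tn (h.hS.le e)) (by rw [sq, h.tt]; exact one_mem _)
theorem r2 : r * r ≠ 1 := fun e => by
  have := orderOf_dvd_of_pow_eq_one (sq r ▸ e)
  rw [h.ord] at this; omega

theorem sd_inv (ho : orderOf x = 2 ^ (n + 3)) (hy : y ∉ zpowers x) (hs : zpowers x ⊔ zpowers y = S)
    (h1 : y * x * y⁻¹ = x⁻¹ * x ^ 2 ^ (n + 2)) (h2 : y * y = 1) (h3 : t * x * t⁻¹ = x⁻¹) (h4 : t * y * t⁻¹ = x * x * y) :
    False := by
  have hM : MaxCl x y (n + 1) S := ⟨ho, hy, hs, Or.inr (Or.inr ⟨by omega, h1, sq y ▸ h2⟩)⟩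
  have z2 := half_pow_mul_self ho
  have z1 := Invol.ne_one_of_orderOf_two (orderOf_half_pow ho)
  have zx : x ^ 2 ^ (n + 2) ∈ zpowers x := pow_mem (mem_zpowers x) _
  have xx := mem_zpowers x
  have xS : zpowers x ≤ S := zpowers_le.mpr hM.a_mem
  have tk : ∀ k ∈ zpowers x, t * k * t⁻¹ = k⁻¹ := by
    rintro _ ⟨i, rfl⟩; simp only [Invol.conj_zpow_of_inverts h3, zpow_neg]
  have hD : GD (x ^ 2) y (n + 1) (zpowers (x ^ 2) ⊔ zpowers y) := ⟨by
    rw [orderOf_pow, ho, pow_succ, Nat.gcd_mul_left_left]; simp, fun e => hy (zpowers_le.mpr (pow_mem xx 2) e), rfl, by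
    rw [← conj_pow, h1, Commute.mul_pow (comm_zp (inv_mem xx) zx), sq (x ^ _), z2, mul_one, inv_pow], h2⟩
  have tN : t ∈ 𝐍(zpowers (x ^ 2) ⊔ zpowers y) := mem_normalizer_of_cj_le (by
    rw [Subgroup.map_sup, MonoidHom.map_zpowers, MonoidHom.map_zpowers]
    exact sup_le (zpowers_le.mpr (show t * x ^ 2 * t⁻¹ ∈ _ from tk _ (pow_mem xx 2) ▸ hD.le (inv_mem (mem_zpowers _))))
      (zpowers_le.mpr (show t * y * t⁻¹ ∈ _ from h4 ▸ mul_mem (hD.le (sq_mem_sq xx)) hD.yS)))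
  have DS : zpowers (x ^ 2) ⊔ zpowers y ≤ S := sup_le (zpowers_le.mpr (xS (pow_mem xx 2))) (zpowers_le.mpr hM.b_mem)
  have kt : ∀ k ∈ zpowers x, ∀ a ∈ zpowers x, k * (a * t) * k⁻¹ = k * k * a * t := fun k hk a ha => by
    rw [show k * (a * t) * k⁻¹ = k * a * (t * k⁻¹ * t⁻¹) * t by group, tk _ (inv_mem hk), inv_inv, mul_assoc k a,
      comm_zp ha hk, ← mul_assoc]
  have zT : ∀ a ∈ S ⊔ zpowers t, Commute (x ^ 2 ^ (n + 2)) a := fun a ha => (cent_half ho (sup_le (hs ▸ sup_le le_normalizer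
    (zpowers_le.mpr hM.b_mem_normalizer)) (zpowers_le.mpr (mem_normalizer_zpowers (h3 ▸ inv_mem xx))) ha)).symm
  have bad : ∀ a ∈ S ⊔ zpowers t, ∀ c ∈ zpowers (x ^ 2), Commute (c * y) a → ¬ NC L a := fun a ha c hc e hN =>
    hD.rnot hc (hN _ (h.hS.le (xS zx)) _ (h.hS.le (DS (mul_mem (hD.le hc) hD.yS))) z2 (hD.rr hc) z1
      (fun e => hD.rnot hc (e ▸ one_mem _)) (zT _ (mem_sup_left (DS (mul_mem (hD.le hc) hD.yS)))) (zT a ha) e ▸
        ⟨2 ^ (n + 1), by simp only; rw [← zpow_natCast, ← zpow_natCast, ← zpow_mul]; push_cast; ring_nf⟩)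
  have xtT : x * t ∈ S ⊔ zpowers t := mul_mem (mem_sup_left hM.a_mem) h.tT
  have yx : y * x⁻¹ * y⁻¹ = x * x ^ 2 ^ (n + 2) := by
    rw [← conj_inv, h1, mul_inv_rev, inv_inv, inv_eq_of_mul_eq_one_right z2, comm_zp zx xx]
  have bad1 : ¬ NC L (x * t) := by
    have hw : x ^ 2 ^ (n + 1) ∈ zpowers x := pow_mem xx _
    refine bad _ xtT (x * x * x ^ 2 ^ (n + 1)) (mul_mem (sq_mem_sq xx) ⟨2 ^ n, by
      simp only; rw [← zpow_natCast, ← zpow_natCast, ← zpow_mul]; push_cast; ring_nf⟩) (mul_inv_eq_iff_eq_mul.mp ?_).symm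
    rw [show x * t * (x * x * x ^ 2 ^ (n + 1) * y) * (x * t)⁻¹ =
      x * (t * (x * x * x ^ 2 ^ (n + 1)) * t⁻¹) * (t * y * t⁻¹) * x⁻¹ * y⁻¹ * y by group,
      tk _ (mul_mem (mul_mem xx xx) hw), h4, mul_left_inj, mul_assoc _ _ y⁻¹, mul_assoc _ (x * x * y),
      show x * x * y * (x⁻¹ * y⁻¹) = x * x * (y * x⁻¹ * y⁻¹) by group, yx, pow_succ 2 (n + 1), pow_mul, sq]
    generalize 2 ^ (n + 1) = k
    group
  have tD : t ∉ zpowers (x ^ 2) ⊔ zpowers y := fun e => h.tn (h.hS.le (DS e))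
  refine two_class h.hT le_sup_left h.hi (X := zpowers (x ^ 2) ⊔ zpowers y ⊔ zpowers t) (relIndex_two_of_card
    (sup_le_sup_right DS _) (by
      rw [h.card, hM.card, card_sup_zpowers (p := 2) tN tD (by rw [sq t, h.tt]; exact one_mem _),
        card_sup_zpowers (p := 2) hD.yN hD.not_mem (by rw [sq y, h2]; exact one_mem _), Nat.card_zpowers, hD.ord]; ring))
    xtT h.tT (by rw [mul_assoc, h.tt, mul_one]; exact h.hS.le hM.a_mem) ?_ h.tt (fun g hg e => ?_) fun g hg e => ?_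
  · rw [show x * t * (x * t) = x * (t * x * t⁻¹) * (t * t) by group, h3, h.tt]; group
  · have xn : x * t ∉ L := fun e => h.tn ((mul_mem_cancel_left (h.hS.le hM.a_mem)).mp e)
    obtain ⟨s, hs', e1⟩ := (mem_sup_inv tN (h.tt ▸ one_mem _) e).resolve_left fun a =>
      conj_not_mem h.tL xn hg (h.hS.le (DS a))
    rcases hD.cases hs' with a | ⟨c, ⟨j, rfl⟩, rfl⟩
    · obtain ⟨j, rfl⟩ := a
      have := (h.nc.conj (h.norm (mem_sup_left (h.hS.le (xS ⟨j, rfl⟩))))).conj (inv_mem (h.norm hg))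
      rw [show t = 1 * t from (one_mul t).symm, kt _ ⟨j, rfl⟩ 1 (one_mem _), mul_one, ← (Commute.refl x).mul_zpow, ← sq,
        ← e1] at this
      exact bad1 (by simpa [mul_assoc] using this)
    · have e2 : g * (x * t) * g⁻¹ * (g * (x * t) * g⁻¹) = 1 := by
        rw [conj_mul, show x * t * (x * t) = x * (t * x * t⁻¹) * (t * t) by group, h3, h.tt]; group
      have hj : (x ^ 2) ^ j ∈ zpowers (x ^ 2) := ⟨j, rfl⟩
      simp only at e1
      rw [e1, show ∀ c : G, c * y * t * (c * y * t) = c * (y * (t * c * t⁻¹ * (t * y * t⁻¹ * y⁻¹)) * y⁻¹) * (y * y) * (t * t)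
        by intro; group, h2, h.tt, h4, tk _ (zpowers_le.mpr (pow_mem xx 2) hj), mul_inv_cancel_right,
        hD.inv (mul_mem (inv_mem hj) (sq_mem_sq xx))] at e2
      have e3 : x ^ (4 * j - 2) = 1 := by rw [← e2, ← zpow_natCast, ← zpow_mul]; group
      have := (Dvd.intro _ (show (4 : ℤ) * (2 ^ (n + 1) : ℕ) = (2 ^ (n + 3) : ℕ) by push_cast; ring)).trans
        (ho ▸ orderOf_dvd_iff_zpow_eq_one.mpr e3)
      omega
  · obtain ⟨s, hs', e1⟩ := (h.mem e).resolve_left fun a => conj_not_mem h.tL h.tn hg (h.hS.le a)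
    have good := h.nc.conj (h.norm hg)
    rw [e1] at good e ⊢
    rcases hM.mem_iff.mp hs' with a | ⟨c, a, rfl⟩ <;> obtain ⟨k, hk, rfl | rfl⟩ := par a
    · exact mul_mem (mem_sup_left (hD.le (sq_mem_sq hk))) (mem_sup_right (mem_zpowers t))
    · rw [← kt k hk x xx] at good
      exact absurd (by simpa [mul_assoc] using good.conj (h.norm (mem_sup_left (h.hS.le (xS (inv_mem hk)))))) bad1
    · exact mul_mem (mem_sup_left (mul_mem (hD.le (sq_mem_sq hk)) hD.yS)) (mem_sup_right (mem_zpowers t))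
    · refine absurd good (bad _ e 1 (one_mem _) (mul_inv_eq_iff_eq_mul.mp ?_).symm)
      have e2 : k * k * x * y * t * (k * k * x * y * t) = 1 := by rw [← e1, conj_mul, h.tt]; simp
      generalize k * k * x = c at e2 a
      rw [show c * y * t * (c * y * t) = c * y * (t * c * t⁻¹) * (t * y * t⁻¹) * (t * t) by group, tk c a, h4, h.tt,
        mul_one] at e2
      calc _ = c * y * (t * y * t⁻¹ * y⁻¹ * c⁻¹) := by group
        _ = c * y * c⁻¹ * (x * x * y) * y⁻¹ := by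
          rw [h4, mul_inv_cancel_right, comm_zp (mul_mem xx xx) (inv_mem a)]; group
        _ = _ := by rw [e2, inv_eq_of_mul_eq_one_right h2]

theorem case1 (hM : MaxCl x y n S) (hx : t ∈ 𝐍(zpowers x)) : NC S 1 := by
  refine (maxCl_cases hM).resolve_right ?_
  rintro ⟨x0, hx0, k, h0, hz, h1, hN⟩
  obtain ⟨c, -, c2, -, c4⟩ := inv_or h.hS h.hi hM hx0 h0 hz h1 hN h.tL h.tS hx h.tt h.nc
  have ti : ∀ a ∈ zpowers x, y * a * y⁻¹ = a⁻¹ → t * a * t⁻¹ = a⁻¹ := fun a ha e => by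
    obtain ⟨j, rfl⟩ := zpowers_le.mpr c2 (h1 a ha (by
      rw [show a * y * (a * y) = a * (y * a * y⁻¹) * (y * y) by group, e, h0.yy]; group))
    simp only [Invol.conj_zpow_of_inverts c4, zpow_neg]
  have z2 := half_pow_mul_self hM.ord
  have zx : x ^ 2 ^ (n + 1) ∈ zpowers x := pow_mem (mem_zpowers x) _
  have ysq : ∀ a ∈ zpowers x, y * (a * a) * y⁻¹ = (a * a)⁻¹ := fun a ha => by
    obtain ⟨j, e⟩ := sq_mem_sq ha
    have : y * x ^ 2 * y⁻¹ = (x ^ 2)⁻¹ := by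
      rcases hM.cases with ⟨e, -⟩ | ⟨e, -⟩ | ⟨-, e, -⟩ <;> rw [← conj_pow, e]
      exacts [inv_pow x 2, inv_pow x 2, by
        rw [Commute.mul_pow (comm_zp (inv_mem (mem_zpowers x)) zx), sq (x ^ _), z2, mul_one, inv_pow]]
    simp only [← e, Invol.conj_zpow_of_inverts this, zpow_neg]
  have yi : ∀ a ∈ zpowers x, y * a * y⁻¹ = a⁻¹ ∨ (1 ≤ n ∧ x ∈ zpowers a ∧ y * a * y⁻¹ = a⁻¹ * x ^ 2 ^ (n + 1)) :=
    fun a ha => by
    rcases gen_or' hM.ord ha with e | ⟨d, hd, rfl⟩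
    · rcases hM.cases with ⟨e1, -⟩ | ⟨e1, -⟩ | ⟨hn, e1, -⟩
      iterate 2 exact Or.inl (let ⟨j, e⟩ := ha; by simp only [← e, Invol.conj_zpow_of_inverts e1, zpow_neg])
      obtain ⟨d, hd, rfl | rfl⟩ := par ha
      · exact Or.inl (ysq d hd)
      · exact Or.inr ⟨hn, e, by rw [← conj_mul, ysq d hd, e1, comm_zp (mul_mem hd hd) (mem_zpowers x)]; group⟩
    · exact Or.inl (ysq d hd)
  have big : ∀ a, 1 ≤ n → x ∈ zpowers a → a ^ 4 ≠ 1 := fun a hn ⟨j, e⟩ e4 => by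
    have := (pow_dvd_pow 2 (show 3 ≤ n + 2 by omega)).trans (hM.ord ▸ orderOf_dvd_of_pow_eq_one (show x ^ 4 = 1 by
      simp only [← e]; rw [← zpow_natCast, ← zpow_mul, mul_comm, zpow_mul, zpow_natCast, e4, one_zpow]))
    omega
  rcases hM.mem_iff.mp h.rS with e | ⟨a, ha, e⟩
  · rcases yi r e with e1 | ⟨hn, e1, -⟩
    · exact h.r2 (eq_inv_iff_mul_eq_one.mp ((mul_inv_eq_iff_eq_mul.mpr h.rt.symm.eq).symm.trans (ti r e e1)))
    · exact big r hn e1 (orderOf_dvd_iff_pow_eq_one.mp (by rw [h.ord]; rfl))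
  have e0 : r * r = a * (y * a * y⁻¹) := by
    rw [e, show a * y * (a * y) = a * (y * a * y⁻¹) * (y * y) by group, h0.yy, mul_one]
  obtain ⟨hn, e1, e2⟩ := (yi a ha).resolve_left fun e1 => h.r2 (by rw [e0, e1, mul_inv_cancel])
  have ez : zpowers a = zpowers x := le_antisymm (zpowers_le.mpr ha) (zpowers_le.mpr e1)
  have ho : orderOf a = 2 ^ (n + 2) := by rw [← Nat.card_zpowers, ez, Nat.card_zpowers, hM.ord]
  have az : a ^ 2 ^ (n + 1) = x ^ 2 ^ (n + 1) := ((eq_one_or_eq_half_pow ho (ez ▸ zx) (by rwa [sq])).resolve_left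
    (Invol.ne_one_of_orderOf_two (orderOf_half_pow hM.ord))).symm
  have t2 := ti _ (mul_mem ha ha) (ysq a ha)
  have nc : t * (a * a) * t⁻¹ ≠ a * a := fun e => big a hn e1 (by
    rw [e, eq_inv_iff_mul_eq_one] at t2; rw [← t2, show 4 = 2 * 2 from rfl, pow_mul, sq, sq])
  have tr : t * r * t⁻¹ = r := mul_inv_eq_iff_eq_mul.mpr h.rt.symm.eq
  have ya : y = a⁻¹ * r := by rw [e, inv_mul_cancel_left]
  rcases conj_cases ho (ez ▸ conj_mem_of_mem_normalizer hx ha) (by rw [sq, h.tt]; exact Commute.one_left a)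
    with e3 | e3 | e3 | e3
  · exact nc (by rw [← conj_mul, e3])
  · exact nc (by rw [← conj_mul, e3, az, Commute.mul_mul_mul_comm (comm_zp zx ha), z2, mul_one])
  · obtain ⟨n, rfl⟩ := Nat.exists_eq_add_of_le' hn
    exact h.sd_inv ho (ez ▸ hM.not_mem) (ez ▸ hM.sup) (az ▸ e2) h0.yy e3 (by
      rw [ya, ← conj_mul, tr, ← conj_inv, e3]; group)
  · have ra : r * a * r⁻¹ = a⁻¹ * x ^ 2 ^ (n + 1) := by
      rw [e, show a * y * a * (a * y)⁻¹ = a * (y * a * y⁻¹) * a⁻¹ by group, e2, comm_zp ha (mul_mem (inv_mem ha) zx),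
        mul_inv_cancel_right]
    have hN := sup_le (hM.sup ▸ sup_le le_normalizer (zpowers_le.mpr hM.b_mem_normalizer) : S ≤ _) (zpowers_le.mpr hx)
    refine cyc_idx h.hS h.hi h.hT le_sup_left hM.ord hM.relIndex (fun _ ha _ => ha)
      (fun g hg => mem_cent.mpr (cent_half hM.ord (hN hg))) (sq_sup hM.relIndex h.tS hx h.tt) hM.b_mem h0.yy hM.not_mem
      (c := t * r) (mul_mem (mem_sup_right (mem_zpowers t)) (mem_sup_left (h.hS.le h.rS)))
      (by rw [h.rt.mul_mul_mul_comm, h.tt, one_mul, e0, e2, mul_inv_cancel_left]) ?_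
    rw [ya]
    refine Commute.mul_right (Commute.inv_right (mul_inv_eq_iff_eq_mul.mp ?_)) (h.rt.symm.mul_left (Commute.refl r))
    rw [show t * r * a * (t * r)⁻¹ = t * (r * a * r⁻¹) * t⁻¹ by group, ra, ← conj_mul, ← conj_inv, e3, az,
      (cent_half hM.ord hx).eq, mul_inv_cancel_right, mul_inv_rev, inv_inv, comm_zp (inv_mem zx) ha, inv_mul_cancel_right]

end C4

end Cfsg.Agent.Lib.Dih
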