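/- An involution with cyclic fixed Sylow subgroup of order four: normal four-group case.  Owner: helper2. -/
import Cfsg.Agent.Lib.Dih.Cyc4b
import Cfsg.Agent.FT.Cons.Meta3

set_option autoImplicit false
set_option linter.unusedSectionVars false

namespace Cfsg.Agent.Lib.Dih

open Subgroup Cfsg.Agent.Lib Cfsg.Agent.Lib.Core Cfsg.Agent.Lib.PGroup Cfsg.Agent.Lib.Glaub
open scoped Cfsg.Agent.Lib.Glaub commutatorElement IsMulCommutative

variable {G : Type*} [Group G] [Finite G] {L S H T X : Subgroup G} {x y c d s t u v a b r : G} {m n : ℕ}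

theorem cyc_two (hP : IsPGroup 2 G) (ht : t * t = 1) (hr : r * r = 1) (hc : Commute r t)
    (h : centralizer {t} ≤ zpowers r ⊔ zpowers t) :
    (∀ g, Commute g t) ∨ ∃ c : G, ∃ n, (zpowers c).index = 2 ∧ orderOf c = 2 ^ (n + 2) := by
  have h2 : Nat.card (zpowers r) ≤ 2 := by rw [Nat.card_zpowers]; exact orderOf_le_of_pow_eq_one two_pos (by rwa [sq])
  have h4 : Nat.card (centralizer {t} : Subgroup G) ≤ 2 ^ 2 := (card_le_of_le h).trans (by
    by_cases e : t ∈ zpowers r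
    · rw [sup_eq_left.mpr (zpowers_le.mpr e)]; omega
    · rw [card_sup_zpowers (p := 2) (norm_of_comm hc.symm (mem_zpowers t)) e (by rw [sq, ht]; exact one_mem _)]; omega)
  obtain ⟨j, hj⟩ := IsPGroup.iff_card.mp hP
  rcases j with _ | _ | _ | j
  · haveI := isCyclic_of_card_dvd_prime (p := 2) (α := G) (by rw [hj]; norm_num)
    exact Or.inl fun g => mul_comm' g t
  · haveI := isCyclic_of_card_dvd_prime (p := 2) (α := G) (by rw [hj]; norm_num)
    exact Or.inl fun g => mul_comm' g t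
  · haveI := IsPGroup.isMulCommutative_of_card_eq_prime_sq (p := 2) hj
    exact Or.inl fun g => mul_comm' g t
  obtain ⟨c, e⟩ := exists_zpowers_index_two _ G rfl hP (index_commutator_of_maxClass hj
    (nilpotencyClass_eq_of_card_centralizer_le (j + 1) G hj ⟨t, h4⟩)).2
  refine Or.inr ⟨c, j, e, Nat.eq_of_mul_eq_mul_right two_pos ?_⟩
  rw [← Nat.card_zpowers, ← pow_succ, ← hj, ← (zpowers c).card_mul_index, e]

theorem mcyc_solv (hS : IsSyl 2 S L) (hn : S ≤ 𝐍(zpowers d)) (hg : zpowers d ⊔ zpowers s = S) (h2 : s * s ∉ zpowers d) :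
    Group.IsSolvable L := by
  have hd : d ∈ L := hS.le (hg ▸ mem_sup_left (mem_zpowers d))
  have hs : s ∈ L := hS.le (hg ▸ mem_sup_right (mem_zpowers s))
  have e : ∀ x : L, zpowers x = (zpowers (x : G)).subgroupOf L := fun x => by
    rw [← show (zpowers x).map L.subtype = zpowers (x : G) from MonoidHom.map_zpowers _ x, subgroupOf,
      comap_map_eq_self_of_injective L.subtype_injective]
  refine FT.Cons.solvable_of_mcyc L (S.subgroupOf L) ⟨d, hd⟩ ⟨s, hs⟩ ⟨subgroupOf_self L ▸ hS.subgroupOf le_rfl,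
    ⟨e _ ▸ comap_mono (hg ▸ le_sup_left), fun g h => mem_normalizer_zpowers (by
      rw [e, mem_subgroupOf]; exact conj_mem_of_mem_normalizer (hn h) (mem_zpowers d))⟩, ?_, fun h => h2 (by rw [e, sq] at h; exact h)⟩
  rw [e, e, ← hg, subgroupOf_sup (zpowers_le.mpr hd) (zpowers_le.mpr hs)]

theorem norm_of_four (ha : a ∈ zpowers c) (e : c * u * c⁻¹ = u ∨ c * u * c⁻¹ = a * u) : u ∈ 𝐍(zpowers c) :=
  mem_normalizer_zpowers (by
    rw [show u * c * u⁻¹ = (c * u * c⁻¹ * u⁻¹)⁻¹ * c by group]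
    refine mul_mem (inv_mem ?_) (mem_zpowers c)
    rcases e with e | e <;> rw [e]
    exacts [mul_inv_cancel u ▸ one_mem _, (mul_inv_cancel_right a u).symm ▸ ha])

theorem four_sq (h2 : a * a = 1) (hc : Commute a c) (e : c * u * c⁻¹ = u ∨ c * u * c⁻¹ = a * u) : Commute u (c * c) :=
  (mul_inv_eq_iff_eq_mul.mp (by
    rw [show c * c * u * (c * c)⁻¹ = c * (c * u * c⁻¹) * c⁻¹ by group]
    rcases e with e | e <;> rw [e]
    · exact e
    · rw [← conj_mul, e, ← hc.eq, mul_inv_cancel_right, ← mul_assoc, h2, one_mul])).symm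

theorem GD.sq_one (ha : a * a = 1) (hb : b * b = 1) (hc : Commute a b) (h : c ∈ zpowers a ⊔ zpowers b) : c * c = 1 := by
  obtain ⟨_, ⟨i, rfl⟩, j, rfl⟩ := (mem_sup_zpowers_iff (norm_of_comm hc.symm (mem_zpowers b))).mp h
  simp only
  rw [((hc.zpow_zpow i j).symm).mul_mul_mul_comm, ← (Commute.refl a).mul_zpow, ← (Commute.refl b).mul_zpow, ha, hb]; simp

namespace C4
variable (h : C4 L S t r)
include h

theorem rr : r ^ 2 ^ 1 = r * r := by rw [pow_one, sq]
theorem z2 : r * r * (r * r) = 1 := h.rr ▸ half_pow_mul_self h.ord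
theorem inR (ha : a ∈ zpowers r) : a = 1 ∨ a = r * r ∨ a * a = r * r := by
  have : (a * a) ^ 2 = 1 := by
    obtain ⟨k, rfl⟩ := ha
    rw [sq, ← (Commute.refl r).mul_zpow, ← (Commute.refl _).mul_zpow, h.z2, one_zpow]
  rcases eq_one_or_eq_half_pow h.ord (mul_mem ha ha) this with e | e
  · exact (eq_one_or_eq_half_pow h.ord ha (by rwa [sq])).imp_right fun e => Or.inl (h.rr ▸ e)
  · exact Or.inr (Or.inr (h.rr ▸ e))

/-- the case of a normal four-group, after passing to the cyclic maximal subgroup of the quotient -/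
theorem big (ns : ¬ Group.IsSolvable L) (hu : u ∈ S) (uu : u * u = 1) (hc : c ∈ S ⊔ zpowers t)
    (ho : orderOf c = 2 ^ (n + 3)) (un : u ∉ zpowers c) (zc : ∀ g ∈ S ⊔ zpowers t, Commute (c ^ 2 ^ (n + 2)) g)
    (hg : ∀ g ∈ S ⊔ zpowers t, g * u * g⁻¹ = u ∨ g * u * g⁻¹ = c ^ 2 ^ (n + 2) * u)
    (m1 : ∀ g ∈ S ⊔ zpowers t, g ∈ zpowers c ⊔ zpowers u ∨ g * t ∈ zpowers c ⊔ zpowers u)
    (m2 : t ∉ zpowers c ⊔ zpowers u) (m4 : c * (t * c * t⁻¹)⁻¹ ∉ zpowers (c ^ 2 ^ (n + 2))) : False := by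
  have cc := mem_zpowers c
  have z2 := half_pow_mul_self ho
  have zx : c ^ 2 ^ (n + 2) ∈ zpowers c := pow_mem cc _
  have cT : zpowers c ≤ S ⊔ zpowers t := zpowers_le.mpr hc
  have uN : u ∈ 𝐍(zpowers c) := norm_of_four zx (hg c hc)
  have mM : ∀ a ∈ zpowers c ⊔ zpowers u, a ∈ zpowers c ∨ ∃ k ∈ zpowers c, a = k * u := fun a ha =>
    mem_sup_inv uN (uu ▸ one_mem _) ha
  have u2 : Commute u (c * c) := four_sq z2 (zc c hc) (hg c hc)
  have tn : t ∉ S := fun e => h.tn (h.hS.le e)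
  have p1 : c ^ 2 ^ (n + 1) * c ^ 2 ^ (n + 1) = c ^ 2 ^ (n + 2) := by rw [← pow_add, ← mul_two, ← pow_succ]
  by_cases cS : c ∈ S
  · have MS : zpowers c ⊔ zpowers u ≤ S := sup_le (zpowers_le.mpr cS) (zpowers_le.mpr hu)
    have hX : (zpowers c).relIndex S = 2 := le_antisymm MS (fun g h1 => (m1 g (mem_sup_left h1)).resolve_right fun e =>
      tn ((mul_mem_cancel_left h1).mp (MS e))) ▸ relIndex_sup_zpowers (p := 2) uN un (by rw [sq, uu]; exact one_mem _)
    exact cyc_idx h.hS h.hi h.hS le_rfl ho hX (fun _ ha _ => ha) (fun g h1 => mem_cent.mpr (zc g (mem_sup_left h1)).symm)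
      (sq_idx hX) hu uu un (h.hS.le (pow_mem cS _)) p1 (by rw [pow_succ', pow_mul, sq]; exact (u2.pow_right _).symm)
  obtain ⟨s, hs, es⟩ := (h.mem hc).resolve_left cS
  have es' : s = c * t := by rw [es, mul_assoc, h.tt, mul_one]
  have hX : S.relIndex (S ⊔ zpowers t) = 2 := relIndex_sup_zpowers (p := 2) h.tS tn (by rw [sq, h.tt]; exact one_mem _)
  have dS : zpowers (c ^ 2) ≤ S := zpowers_le.mpr (sq c ▸ sq_idx hX c hc)
  have cd : ∀ a ∈ zpowers c, a ∈ S → a ∈ zpowers (c ^ 2) := fun a ha e => by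
    obtain ⟨k, hk, rfl | rfl⟩ := par ha
    exacts [sq_mem_sq hk, absurd ((mul_mem_cancel_left (dS (sq_mem_sq hk))).mp e) cS]
  have zd : (c ^ 2) ^ 2 ^ (n + 1) = c ^ 2 ^ (n + 2) := by rw [← pow_mul, ← pow_succ']
  have zd' : c ^ 2 ^ (n + 2) ∈ zpowers (c ^ 2) := zd ▸ pow_mem (mem_zpowers _) _
  have dc : zpowers (c ^ 2) ≤ zpowers c := zpowers_le.mpr (pow_mem cc 2)
  have gu : ∀ g ∈ S ⊔ zpowers t, g * u * g⁻¹ * u ∈ zpowers (c ^ 2) := fun g h1 => by
    rcases hg g h1 with e | e <;> rw [e]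
    · rw [uu]; exact one_mem _
    · rwa [mul_assoc, uu, mul_one]
  have sup : zpowers (c ^ 2) ⊔ zpowers u ⊔ zpowers s = S := by
    refine le_antisymm (sup_le (sup_le dS (zpowers_le.mpr hu)) (zpowers_le.mpr hs)) fun g h1 => ?_
    have key : ∀ g ∈ S, g ∈ zpowers c ⊔ zpowers u → g ∈ zpowers (c ^ 2) ⊔ zpowers u := fun g h1 e => by
      rcases mM g e with e | ⟨k, hk, rfl⟩
      exacts [mem_sup_left (cd g e h1), mul_mem (mem_sup_left (cd k hk ((mul_mem_cancel_right hu).mp h1)))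
        (mem_sup_right (mem_zpowers u))]
    rcases m1 g (mem_sup_left h1) with e | e
    · exact mem_sup_left (key g h1 e)
    · refine (mul_mem_cancel_right (inv_mem (mem_sup_right (mem_zpowers s)))).mp (mem_sup_left (key _
        (mul_mem h1 (inv_mem hs)) ?_))
      rw [es', mul_inv_rev, inv_eq_of_mul_eq_one_right h.tt, ← mul_assoc]
      exact mul_mem e (mem_sup_left (inv_mem cc))
  have m3 := (m1 (t * c * t⁻¹) (mul_mem (mul_mem h.tT hc) (inv_mem h.tT))).resolve_right fun e =>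
    m2 ((mul_mem_cancel_right (mem_sup_left cc)).mp (inv_mul_cancel_right (t * c) t ▸ e))
  have ss : s * s = c * (t * c * t⁻¹) := by rw [es', inv_eq_of_mul_eq_one_right h.tt]; group
  have ud : Commute u (c ^ 2) := sq c ▸ u2
  rcases mM _ m3 with e | ⟨a, ha, e⟩
  · have key : t * c * t⁻¹ = c⁻¹ ∨ t * c * t⁻¹ = c⁻¹ * c ^ 2 ^ (n + 2) := by
      rcases conj_cases ho e (by rw [sq, h.tt]; exact Commute.one_left c) with e | e | e | e
      · exact absurd (by rw [e, mul_inv_cancel]; exact one_mem _) m4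
      · exact absurd (by
          rw [e, comm_zp cc zx, mul_inv_rev, mul_inv_cancel_left]; exact inv_mem (mem_zpowers _)) m4
      exacts [Or.inl e, Or.inr e]
    refine NS.elim (d := c ^ 2) (u := u) (s := s) (m := n) ⟨by rw [orderOf_pow, ho, pow_succ, Nat.gcd_mul_left_left]; simp,
      uu, ud, fun e => un (dc e), ?_, ?_, zd ▸ hg s (mem_sup_left hs), fun e => m2 ((mul_mem_cancel_left
        (mem_sup_left cc)).mp (es' ▸ sup_le_sup_right dc _ e)), sup⟩ h.hS h.hi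
    · rw [es', show c * t * c ^ 2 * (c * t)⁻¹ = c * (t * c * t⁻¹) ^ 2 * c⁻¹ by rw [conj_pow]; group]
      rcases key with e | e <;> rw [e]
      · group
      · rw [Commute.mul_pow (comm_zp (inv_mem cc) zx), sq (c ^ _), z2]; group
    · rw [ss, zd]
      exact key.imp (fun e => by rw [e, mul_inv_cancel]) fun e => by rw [e, mul_inv_cancel_left]
  · have ca : c * a ∈ zpowers (c ^ 2) := cd _ (mul_mem cc ha) ((mul_mem_cancel_right hu).mp (by
      rw [mul_assoc, ← e, ← ss]; exact mul_mem hs hs))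
    rw [e, ← mul_assoc] at ss
    refine ns (mcyc_solv h.hS (d := c ^ 2) (s := s) (sup ▸ sup_le (sup_le le_normalizer (norm_of_comm ud))
      (zpowers_le.mpr (mem_normalizer_zpowers ?_))) (le_antisymm (sup_le dS (zpowers_le.mpr hs)) (sup ▸ sup_le (sup_le
        le_sup_left (zpowers_le.mpr ((mul_mem_cancel_left (mem_sup_left ca)).mp (ss ▸ mem_sup_right (mul_mem
          (mem_zpowers s) (mem_zpowers s)))))) le_sup_right)) fun e => un (dc ((mul_mem_cancel_left ca).mp (ss ▸ e))))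
    rw [es', show c * t * c ^ 2 * (c * t)⁻¹ = c * (t * c * t⁻¹) ^ 2 * c⁻¹ by rw [conj_pow]; group, e, sq (a * u),
      show a * u * (a * u) = a * a * (a⁻¹ * u * a⁻¹⁻¹ * u) by group]
    have := mul_mem (sq_mem_sq ha) (gu _ (cT (inv_mem ha)))
    rwa [comm_zp cc (dc this), mul_inv_cancel_right]

theorem case2 (ns : ¬ Group.IsSolvable L) (hu : u ∈ S) (uu : u * u = 1) (u1 : u ≠ 1) (uz : r * r ≠ u)
    (zc : ∀ g ∈ S ⊔ zpowers t, Commute (r * r) g)
    (hg : ∀ g ∈ S ⊔ zpowers t, g * u * g⁻¹ = u ∨ g * u * g⁻¹ = r * r * u) : False := by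
  have rT : r ∈ S ⊔ zpowers t := mem_sup_left h.rS
  have uT : u ∈ S ⊔ zpowers t := mem_sup_left hu
  have zr : r * r ∈ zpowers r := mul_mem (mem_zpowers r) (mem_zpowers r)
  have tu : t * u * t⁻¹ = r * r * u := (hg t h.tT).resolve_left fun e => uz (h.nc _ (h.hS.le (mul_mem h.rS h.rS)) u
    (h.hS.le hu) h.z2 uu h.r2 u1 (zc u uT) (zc t h.tT) (mul_inv_eq_iff_eq_mul.mp e).symm)
  have ur : u ∉ zpowers r := fun e => by
    rcases eq_one_or_eq_half_pow h.ord e (by rwa [sq]) with e | e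
    exacts [u1 e, uz (h.rr ▸ e.symm)]
  have hz : ∀ a ∈ zpowers (r * r), a = 1 ∨ a = r * r := fun a ha =>
    (mem_zpowers_iff_of_orderOf_two (Invol.orderOf_two_of h.z2 h.r2)).mp ha
  have mU : ∀ a ∈ zpowers (r * r) ⊔ zpowers u, a ∈ zpowers (r * r) ∨ ∃ k ∈ zpowers (r * r), a = k * u := fun a ha =>
    mem_sup_inv (norm_of_comm (zc u uT).symm (mem_zpowers u)) (uu ▸ one_mem _) ha
  have US : zpowers (r * r) ⊔ zpowers u ≤ S := sup_le (zpowers_le.mpr (mul_mem h.rS h.rS)) (zpowers_le.mpr hu)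
  have TU : S ⊔ zpowers t ≤ 𝐍(zpowers (r * r) ⊔ zpowers u) := fun g h1 => mem_normalizer_of_cj_le (by
    rw [Subgroup.map_sup, MonoidHom.map_zpowers, MonoidHom.map_zpowers]
    refine sup_le (zpowers_le.mpr ?_) (zpowers_le.mpr ?_)
    · change g * (r * r) * g⁻¹ ∈ _
      rw [← (zc g h1).eq, mul_inv_cancel_right]; exact mem_sup_left (mem_zpowers _)
    · change g * u * g⁻¹ ∈ _
      rcases hg g h1 with e | e <;> rw [e]
      exacts [mem_sup_right (mem_zpowers u), mul_mem (mem_sup_left (mem_zpowers _)) (mem_sup_right (mem_zpowers u))])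
  have K : ∀ g ∈ S ⊔ zpowers t, g * t * g⁻¹ * t⁻¹ ∈ zpowers (r * r) ⊔ zpowers u → Commute g t ∨ Commute (g * u) t :=
    fun g h1 e => by
    have e2 : g * t * g⁻¹ * t⁻¹ * (t * (g * t * g⁻¹ * t⁻¹) * t⁻¹) = 1 := by
      rw [show g * t * g⁻¹ * t⁻¹ * (t * (g * t * g⁻¹ * t⁻¹) * t⁻¹) = g * (t * t) * g⁻¹ * (t * t)⁻¹ by group, h.tt]; group
    rcases mU _ e with a | ⟨k, a, e⟩
    · rcases hz _ a with a | a
      · exact Or.inl (mul_inv_eq_iff_eq_mul.mp (mul_inv_eq_one.mp a))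
      · refine Or.inr (mul_inv_eq_iff_eq_mul.mp ?_)
        calc _ = g * (t * u * t⁻¹ * u⁻¹)⁻¹ * g⁻¹ * (g * t * g⁻¹ * t⁻¹) * t := by group
          _ = t := by
            rw [tu, a, mul_inv_cancel_right, ← (zc g h1).inv_left.eq, mul_inv_cancel_right, inv_mul_cancel, one_mul]
    · have kk : Commute k u ∧ Commute k t ∧ k * k = 1 := by
        rcases hz k a with rfl | rfl
        exacts [⟨Commute.one_left u, Commute.one_left t, one_mul 1⟩, ⟨zc u uT, zc t h.tT, h.z2⟩]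
      rw [e, ← conj_mul, tu, ← kk.2.1.eq, mul_inv_cancel_right, kk.1.symm.mul_mul_mul_comm, kk.2.2, one_mul, (zc u uT).eq,
        ← mul_assoc, uu, one_mul] at e2
      exact absurd e2 h.r2
  haveI := normal_subgroupOf_of_le_normalizer TU
  let π := QuotientGroup.mk' ((zpowers (r * r) ⊔ zpowers u).subgroupOf (S ⊔ zpowers t))
  have π1 : ∀ g, π g = 1 ↔ (g : G) ∈ zpowers (r * r) ⊔ zpowers u := fun g => QuotientGroup.eq_one_iff g
  have πc : ∀ g, Commute (π g) (π ⟨t, h.tT⟩) ↔ (g : G) * t * (g : G)⁻¹ * t⁻¹ ∈ zpowers (r * r) ⊔ zpowers u := fun g => by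
    rw [← commutatorElement_eq_one_iff_commute, ← map_commutatorElement, π1]; rfl
  have πu : π ⟨u, uT⟩ = 1 := (π1 _).mpr (mem_sup_right (mem_zpowers u))
  have πr : π ⟨r, rT⟩ * π ⟨r, rT⟩ = 1 := by rw [← map_mul, π1]; exact mem_sup_left (mem_zpowers _)
  have πt : π ⟨t, h.tT⟩ * π ⟨t, h.tT⟩ = 1 := by rw [← map_mul, π1]; exact (show t * t ∈ _ from h.tt ▸ one_mem _)
  have πrt : Commute (π ⟨r, rT⟩) (π ⟨t, h.tT⟩) := Commute.map (Subtype.ext h.rt.eq) π
  have cen : centralizer {π ⟨t, h.tT⟩} ≤ zpowers (π ⟨r, rT⟩) ⊔ zpowers (π ⟨t, h.tT⟩) := fun q hq => by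
    obtain ⟨g, rfl⟩ := QuotientGroup.mk'_surjective _ q
    have key : ∀ g : ↥(S ⊔ zpowers t), Commute (g : G) t → π g ∈ zpowers (π ⟨r, rT⟩) ⊔ zpowers (π ⟨t, h.tT⟩) := fun g e => by
      have k2 : ∀ g : ↥(S ⊔ zpowers t), (g : G) ∈ S → Commute (g : G) t → π g ∈ zpowers (π ⟨r, rT⟩) := fun g e1 e2 =>
        let ⟨j, hj⟩ := h.cent g e1 e2; ⟨j, by simp only; rw [← map_zpow]; exact congrArg π (Subtype.ext hj)⟩
      rcases h.mem g.2 with e1 | ⟨s, hs, e1⟩
      · exact mem_sup_left (k2 g e1 e)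
      · rw [show g = ⟨s, mem_sup_left hs⟩ * ⟨t, h.tT⟩ from Subtype.ext e1, map_mul]
        exact mul_mem (mem_sup_left (k2 _ hs (by
          simpa [e1] using e.mul_left (Commute.refl t).inv_left))) (mem_sup_right (mem_zpowers _))
    rcases K g g.2 ((πc g).mp (mem_cent.mp hq)) with e | e
    · exact key g e
    · have := key (g * ⟨u, uT⟩) e
      rwa [map_mul, πu, mul_one] at this
  rcases cyc_two (h.hT.isPGroup.to_quotient _) πt πr πrt cen with e | ⟨q, n, q1, q2⟩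
  · have uN := norm_of_four zr (hg r rT)
    have hX : (zpowers r).relIndex S = 2 := le_antisymm (sup_le (zpowers_le.mpr h.rS) (zpowers_le.mpr hu)) (fun s hs => by
      rcases K s (mem_sup_left hs) ((πc ⟨s, mem_sup_left hs⟩).mp (e _)) with e | e
      exacts [mem_sup_left (h.cent s hs e), (mul_mem_cancel_right (mem_sup_right (mem_zpowers u))).mp
        (mem_sup_left (h.cent _ (mul_mem hs hu) e))]) ▸ relIndex_sup_zpowers (p := 2) uN ur (by rw [sq, uu]; exact one_mem _)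
    have key := fun c => cyc_idx (c := c) h.hS h.hi h.hT le_sup_left h.ord hX (fun _ ha _ => ha)
      (fun g hg => mem_cent.mpr (h.rr ▸ (zc g hg).symm)) (sq_sup hX h.tS (norm_of_comm h.rt.symm (mem_zpowers t)) h.tt) hu uu ur
    rcases hg r rT with e | e
    · exact key r (h.hT.le rT) h.rr.symm (mul_inv_eq_iff_eq_mul.mp e)
    · refine key (t * r) (h.hT.le (mul_mem h.tT rT)) (by rw [h.rt.mul_mul_mul_comm, h.tt, one_mul, h.rr])
        (mul_inv_eq_iff_eq_mul.mp ?_)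
      rw [show t * r * u * (t * r)⁻¹ = t * (r * u * r⁻¹) * t⁻¹ by group, e, ← conj_mul, tu, ← (zc t h.tT).eq,
        mul_inv_cancel_right, ← mul_assoc, h.z2, one_mul]
  obtain ⟨c, rfl⟩ := QuotientGroup.mk'_surjective _ q
  change (zpowers (π c)).index = 2 at q1
  change orderOf (π c) = _ at q2
  haveI := normal_of_index_eq_two q1
  have nct : ¬ Commute (π c) (π ⟨t, h.tT⟩) := fun e => by
    have e1 := (GD.sq_one πr πt πrt (cen (mem_cent.mpr e)))
    have := (pow_dvd_pow 2 (show 2 ≤ n + 2 by omega)).trans (q2 ▸ orderOf_dvd_of_pow_eq_one (sq (π c) ▸ e1))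
    omega
  have hX : S.relIndex (S ⊔ zpowers t) = 2 := relIndex_sup_zpowers (p := 2) h.tS (fun e => h.tn (h.hS.le e))
    (by rw [sq, h.tt]; exact one_mem _)
  have p1 : (c : G) ^ 2 ^ (n + 1) = ((c : G) * c) ^ 2 ^ n := by rw [pow_succ', pow_mul, sq]
  have ρS : (c : G) ^ 2 ^ (n + 1) ∈ S := p1 ▸ pow_mem (sq_idx hX _ c.2) _
  have ρu : Commute u ((c : G) ^ 2 ^ (n + 1)) := p1 ▸ (four_sq h.z2 (zc _ c.2) (hg _ c.2)).pow_right _
  have ρU : (c : G) ^ 2 ^ (n + 1) ∉ zpowers (r * r) ⊔ zpowers u := fun e =>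
    Invol.ne_one_of_orderOf_two (orderOf_half_pow q2) (by rw [← map_pow, π1]; exact e)
  have ρ2 : (c : G) ^ 2 ^ (n + 2) = r * r := by
    rw [pow_succ, pow_mul, sq]
    have key : ∀ a ∈ S, Commute a t → a ∈ zpowers (r * r) ⊔ zpowers u ∨ a * a = r * r := fun a ha e => by
      rcases h.inR (h.cent a ha e) with rfl | rfl | e
      exacts [Or.inl (one_mem _), Or.inl (mem_sup_left (mem_zpowers _)), Or.inr e]
    rcases K _ (mem_sup_left ρS) ((πc (c ^ 2 ^ (n + 1))).mp (by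
      rw [map_pow]; exact (cent_half q2 (le_normalizer_of_normal (mem_top _))).symm)) with e | e
    · exact (key _ ρS e).resolve_left ρU
    · have := (key _ (mul_mem ρS hu) e).resolve_left fun e => ρU ((mul_mem_cancel_right (mem_sup_right (mem_zpowers u))).mp e)
      rwa [ρu.mul_mul_mul_comm, uu, mul_one] at this
  have ho : orderOf (c : G) = 2 ^ (n + 3) := orderOf_eq_prime_pow (ρ2 ▸ h.r2) (by rw [pow_succ, pow_mul, ρ2, sq, h.z2])
  have UM : zpowers (r * r) ⊔ zpowers u ≤ zpowers (c : G) ⊔ zpowers u :=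
    sup_le_sup_right (zpowers_le.mpr (ρ2 ▸ pow_mem (mem_zpowers _) _)) _
  have mM : ∀ g : ↥(S ⊔ zpowers t), π g ∈ zpowers (π c) ↔ (g : G) ∈ zpowers (c : G) ⊔ zpowers u := fun g => by
    constructor
    · rintro ⟨j, hj⟩
      refine (mul_mem_cancel_left (inv_mem (mem_sup_left (zpow_mem (mem_zpowers _) j)))).mp
        (UM ((π1 ((c ^ j)⁻¹ * g)).mp ?_))
      rw [map_mul, map_inv, map_zpow, ← hj, inv_mul_cancel]
    · intro e
      have : zpowers (c : G) ⊔ zpowers u ≤ ((zpowers (π c)).comap π).map (S ⊔ zpowers t).subtype :=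
        sup_le (zpowers_le.mpr ⟨c, mem_zpowers _, rfl⟩) (zpowers_le.mpr ⟨⟨u, uT⟩,
          mem_comap.mpr (πu ▸ one_mem _), rfl⟩)
      obtain ⟨g', e1, e2⟩ := this e
      exact (show g' = g from Subtype.ext e2) ▸ e1
  have m2 : π ⟨t, h.tT⟩ ∉ zpowers (π c) := fun e => nct (comm_zp (mem_zpowers _) e)
  refine h.big ns hu uu c.2 ho (fun e => ?_) (ρ2 ▸ zc) (ρ2 ▸ hg) (fun g h1 => ?_) (mt (mM ⟨t, h.tT⟩).mpr m2) fun e =>
    nct ((πc c).mpr (mem_sup_left (by rw [ρ2] at e; simpa [mul_assoc] using e)))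
  · rcases eq_one_or_eq_half_pow ho e (by rwa [sq]) with e | e
    exacts [u1 e, uz (ρ2 ▸ e.symm)]
  · refine or_iff_not_imp_left.mpr fun e => (mM (⟨g, h1⟩ * ⟨t, h.tT⟩)).mp ?_
    rw [map_mul, mul_mem_iff_of_index_two q1]
    exact iff_of_false (mt (mM ⟨g, h1⟩).mp e) m2

theorem main (ns : ¬ Group.IsSolvable L) : NC L 1 := by
  refine nc_of_syl h.hS ?_
  rcases rel_maxCl' h.hT.isPGroup le_sup_left (sup_le le_normalizer (zpowers_le.mpr h.tS))
    (fun z hz w hw h1 h2 h3 h4 h5 h6 => by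
      by_contra hn
      obtain rfl : z = r * r := h.rr ▸ (eq_one_or_eq_half_pow h.ord (h.cent z hz (h5 t h.tT)) (by rwa [sq])).resolve_left h3
      exact h.case2 ns hw h2 h4 hn h5 h6) with e | ⟨x, y, n, e, hx⟩
  · exact fun u hu v hv h1 h2 h3 h4 _ _ _ => Invol.involution_unique_of_isCyclic e hu hv
      (Invol.orderOf_two_of h1 h3) (Invol.orderOf_two_of h2 h4)
  · exact h.case1 e (hx h.tT)

end C4

end Cfsg.Agent.Lib.Dih
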